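import Cfsg.Agent.TTLink.M24OutGraph
import Cfsg.Agent.TTLink.M24Uniq
import Cfsg.Prelude.Def_KGroupFacts

/-!
The commutator subgroup of a group of type M(24) has outer automorphism group of order two.
-/

set_option autoImplicit false

namespace Cfsg.Agent.TTLink

open Cfsg.Agent.ThreeTransp45 Cfsg.Agent.SporB OutFi

universe u

variable {G : Type u} [Group G] [Finite G] {D : Set G}

omit [Finite G] in
/-- An automorphism fixing a generating set of a subgroup fixes the subgroup. -/
theorem fix_closure {S : Set G} (e : MulAut G) (h : ∀ x ∈ S, e x = x) :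
    ∀ g ∈ Subgroup.closure S, e g = g := fun _ hg =>
  MonoidHom.eqOn_closure (f := e.toMonoidHom) (g := MonoidHom.id G) h hg

omit [Finite G] in
theorem aut_map_cj (e : MulAut G) (g x : G) : e (cj g x) = cj (e g) (e x) := by
  simp [cj]

namespace M24Prim

variable (P : M24Prim D)
include P

/-- An automorphism fixing a joint centraliser agrees on the link with the identity or the second point. -/
theorem fix_link_point {a b : G} (ha : a ∈ D) (hb : b ∈ link D a) (e : MulAut G)
    (heD : ∀ x ∈ D, e x ∈ D) (hfix : ∀ g, Commute g a → Commute g b → e g = g)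
    {x : G} (hx : x ∈ link D a) (hxb : ¬ Commute b x) : e x = x ∨ e x = cj b x := by
  have hD := P.data
  have PX := P.base ha
  have ea : e a = a := hfix a (Commute.refl a) hb.2.2
  have eb : e b = b := hfix b hb.2.2.symm (Commute.refl b)
  have hex : e x ∈ link D a := ⟨heD x hx.1, fun k => hx.2.1 (e.injective (k.trans ea.symm)),
    by have := hx.2.2.map e.toMonoidHom; simpa [ea] using this⟩
  have hexb : ¬ Commute b (e x) := fun k => hxb (Commute.of_map (f := e) e.injective (by rwa [eb]))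
  obtain ⟨-, hinj⟩ := injOn_link hD P.cl P.twinFree ha
  set B : ↥(Subgroup.closure (link D a)) := ⟨b, Subgroup.subset_closure hb⟩
  set X : ↥(Subgroup.closure (link D a)) := ⟨x, Subgroup.subset_closure hx⟩
  set Y : ↥(Subgroup.closure (link D a)) := ⟨e x, Subgroup.subset_closure hex⟩
  have hB : B ∈ linkSet D a := hb
  have hX : X ∈ linkSet D a := hx
  have hY : Y ∈ linkSet D a := hex
  rcases PX.lineData.unique _ ⟨B, hB, rfl⟩ _ ⟨X, hX, rfl⟩ _ ⟨Y, hY, rfl⟩
    (fun k => hxb (commute_reflect hD hB hX k)) (fun k => hexb (commute_reflect hD hB hY k))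
    (by
      rintro _ ⟨⟨⟨C, hC, rfl⟩, -, hc1⟩, -, -, hc2⟩
      have h1 : Commute b (C : G) := commute_reflect hD hB hC hc1
      have h2 : Commute x (C : G) := commute_reflect hD hX hC hc2
      have eC : e (C : G) = C := hfix _ (commute_d C.2).symm h1.symm
      have h3 : Commute (C : G) (e x) := by
        have := h2.symm.map e.toMonoidHom
        simpa [eC] using this
      exact (show Commute C Y from Subtype.ext h3.eq).map (QuotientGroup.mk' _)) with k | k
  · exact Or.inl (congrArg Subtype.val (hinj hY hX k))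
  · refine Or.inr ?_
    have hBX : B * X * B⁻¹ ∈ linkSet D a := conj_linkSet hD B hX
    exact congrArg Subtype.val (hinj hY hBX (k.trans rfl))

/-- The centraliser of a commuting pair is transitive on the members of the link off the second. -/
theorem link_far_pairs {a b : G} (ha : a ∈ D) (hb : b ∈ link D a) {x y : G} (hx : x ∈ link D a)
    (hy : y ∈ link D a) (hbx : ¬ Commute b x) (hby : ¬ Commute b y) :
    ∃ g, Commute g a ∧ Commute g b ∧ cj g x = y := by
  have hD := P.data
  have PX := P.base ha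
  obtain ⟨-, hinj⟩ := injOn_link hD P.cl P.twinFree ha
  set B : ↥(Subgroup.closure (link D a)) := ⟨b, Subgroup.subset_closure hb⟩
  set X : ↥(Subgroup.closure (link D a)) := ⟨x, Subgroup.subset_closure hx⟩
  set Y : ↥(Subgroup.closure (link D a)) := ⟨y, Subgroup.subset_closure hy⟩
  have hB : B ∈ linkSet D a := hb
  have hX : X ∈ linkSet D a := hx
  have hY : Y ∈ linkSet D a := hy
  obtain ⟨h, h1, h2⟩ := PX.far_pairs (a := (B : ↥(Subgroup.closure (link D a)) ⧸ _))
    (b := (X : ↥(Subgroup.closure (link D a)) ⧸ _)) (c := (Y : ↥(Subgroup.closure (link D a)) ⧸ _))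
    ⟨B, hB, rfl⟩ ⟨X, hX, rfl⟩ ⟨Y, hY, rfl⟩
    (fun k => hbx (commute_reflect hD hB hX k)) (fun k => hby (commute_reflect hD hB hY k))
  obtain ⟨g, rfl⟩ := QuotientGroup.mk_surjective h
  have e1 : g * B * g⁻¹ = B := hinj (conj_linkSet hD g hB) hB h1
  have e2 : g * X * g⁻¹ = Y := hinj (conj_linkSet hD g hX) hY h2
  exact ⟨g, (commute_d g.2).symm, (cj_eq_self_iff _ _).1 (congrArg Subtype.val e1),
    congrArg Subtype.val e2⟩

/-- An automorphism fixing the centraliser of a transposition is the identity or conjugation by it on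
the members off its link. -/
theorem fix_far_point {a : G} (ha : a ∈ D) (e : MulAut G) (heD : ∀ x ∈ D, e x ∈ D)
    (hfix : ∀ g, Commute g a → e g = g) {y : G} (hy : y ∈ D) (hay : ¬ Commute a y) :
    e y = y ∨ e y = cj a y := by
  have ea := hfix a (Commute.refl a)
  refine P.lineData.unique a ha y hy _ (heD y hy) hay
    (fun k => hay (Commute.of_map (f := e) e.injective (by rwa [ea]))) fun b hb => ?_
  have eb : e b = b := hfix b hb.1.2.2.symm
  have := hb.2.2.2.symm.map e.toMonoidHom
  simpa [eb] using this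

/-- An automorphism preserving the transpositions is inner. -/
theorem aut_inner (e : MulAut G) (heD : ∀ x ∈ D, e x ∈ D) : ∃ k : G, e = MulAut.conj k := by
  classical
  have hD := P.data
  obtain ⟨a, ha, -⟩ := P.cls.2.1
  obtain ⟨b, hb⟩ := P.linked ha
  -- normalise the pair
  have hpre : ∀ (g : G) (f : MulAut G), (∀ x ∈ D, f x ∈ D) →
      ∀ x ∈ D, (MulAut.conj g * f) x ∈ D := fun g f hf x hx => hD.inv' g _ (hf x hx)
  obtain ⟨g, hg⟩ := P.conj_lists (l := [e a, e b]) (l' := [a, b])
    ⟨by simpa using fun k : e a = e b => hb.2.1 (e.injective k).symm, by simp [heD a ha, heD b hb.1],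
      by simp [show Commute (e a) (e b) from hb.2.2.map e.toMonoidHom,
        show Commute (e b) (e a) from hb.2.2.symm.map e.toMonoidHom]⟩
    ⟨by simp [hb.2.1.symm], by simp [ha, hb.1], by simp [hb.2.2, hb.2.2.symm]⟩ rfl (by simp)
  simp only [List.map_cons, List.map_nil, List.cons.injEq, and_true] at hg
  set e₁ := MulAut.conj g * e
  have h₁D : ∀ x ∈ D, e₁ x ∈ D := hpre g e heD
  have e₁a : e₁ a = a := hg.1
  have e₁b : e₁ b = b := hg.2
  have iffD : ∀ x, e₁ x ∈ D → x ∈ D := by
    have h : e₁ '' D = D := Set.eq_of_subset_of_ncard_le (Set.image_subset_iff.2 h₁D)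
      (le_of_eq (Set.ncard_image_of_injective D e₁.injective).symm) (Set.toFinite _)
    intro x hx
    rw [← h] at hx
    obtain ⟨z, hz, k⟩ := hx
    rwa [← e₁.injective k]
  have L : LinkIso D D a a e₁ :=
    { mul := fun x y _ _ => map_mul e₁ x y
      comm := fun x hx => by have := hx.map e₁.toMonoidHom; simpa [e₁a] using this
      inj := fun x y _ _ k => e₁.injective k
      surj := fun y hy => ⟨e₁.symm y,
        Commute.of_map (f := e₁) e₁.injective (by rw [e₁.apply_symm_apply, e₁a]; exact hy),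
        e₁.apply_symm_apply y⟩
      base := e₁a
      mem := fun x _ => ⟨iffD x, h₁D x⟩ }
  obtain ⟨γ, hγ⟩ := L.pair_equiv (b := b) hb.2.2.symm e₁b
  have img : ∀ {u x : G}, e₁ u = u → x ∈ link D u → e₁ x ∈ link D u := fun hu hx =>
    ⟨h₁D _ hx.1, fun k => hx.2.1 (e₁.injective (k.trans hu.symm)),
      by have := hx.2.2.map e₁.toMonoidHom; simpa [hu] using this⟩
  obtain ⟨k, hk⟩ := P.pair_inner outTwoM22 ha hb γ
    (fun z hz => by rw [hγ]; exact ⟨img e₁a hz.1, img e₁b hz.2⟩)
    (fun h => (hγ _).trans e₁a) (fun h => (hγ _).trans e₁b)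
  set e₂ := MulAut.conj (k : G)⁻¹ * e₁
  have h₂D : ∀ x ∈ D, e₂ x ∈ D := hpre _ e₁ h₁D
  have fix₂ : ∀ x, Commute x a → Commute x b → e₂ x = x := fun x h1 h2 => by
    have h := congrArg (fun f : MulAut ↥(Subgroup.centralizer ({a, b} : Set G)) =>
      (f ⟨x, mem_pair.2 ⟨h1, h2⟩⟩ : G)) hk
    simp only [hγ] at h
    show cj (k : G)⁻¹ (e₁ x) = x
    rw [h]
    exact cj_inv_cj (k : G) x
  -- fix the link
  obtain ⟨e₃, h₃D, fix₃, g₃, hg₃⟩ : ∃ e₃ : MulAut G, (∀ x ∈ D, e₃ x ∈ D) ∧
      (∀ x, Commute x a → e₃ x = x) ∧ ∃ g₃ : G, e₃ = MulAut.conj g₃ * e₂ := by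
    by_cases hne : ∃ x ∈ link D a, ¬ Commute b x
    · obtain ⟨x₀, hx₀, hbx₀⟩ := hne
      obtain ⟨g₃, hb3, hx3⟩ : ∃ g₃ : G, (∀ x, Commute x a → Commute x b → cj g₃ x = x) ∧
          cj g₃ (e₂ x₀) = x₀ := by
        rcases P.fix_link_point ha hb e₂ h₂D fix₂ hx₀ hbx₀ with h | h
        · exact ⟨1, fun x _ _ => cj_one x, by rw [cj_one, h]⟩
        · exact ⟨b, fun x _ h2 => (cj_eq_self_iff b x).2 h2.symm,
            by rw [h, ← cj_mul, hD.mul_self hb.1, cj_one]⟩
      have hab : ∀ x, Commute x a → Commute x b → (MulAut.conj g₃ * e₂) x = x := fun x h1 h2 => by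
        show cj g₃ (e₂ x) = x
        rw [fix₂ x h1 h2]; exact hb3 x h1 h2
      refine ⟨_, hpre g₃ e₂ h₂D, fun x hx => fix_closure _ (S := link D a) (fun y hy => ?_) x
        (by rw [P.closure_link_eq ha]; exact Subgroup.mem_centralizer_singleton_iff.2 hx.eq), g₃, rfl⟩
      by_cases hc : Commute b y
      · exact hab y hy.2.2.symm hc.symm
      · obtain ⟨h, h1, h2, rfl⟩ := P.link_far_pairs ha hb hx₀ hy hbx₀ hc
        rw [aut_map_cj, hab h h1 h2, show (MulAut.conj g₃ * e₂) x₀ = x₀ from hx3]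
    · push Not at hne
      exact ⟨e₂, h₂D, fun x hx => fix_closure _ (S := link D a)
        (fun y hy => fix₂ y hy.2.2.symm (hne y hy).symm) x
        (by rw [P.closure_link_eq ha]; exact Subgroup.mem_centralizer_singleton_iff.2 hx.eq),
        1, by rw [map_one, one_mul]⟩
  -- fix everything
  obtain ⟨g₄, hg₄⟩ : ∃ g₄ : G, ∀ x, MulAut.conj g₄ (e₃ x) = x := by
    suffices h : ∃ g₄ : G, ∀ x ∈ D, (MulAut.conj g₄ * e₃) x = x by
      obtain ⟨g₄, h⟩ := h
      exact ⟨g₄, fun x => fix_closure _ h x (P.cls.2.2 ▸ Subgroup.mem_top x)⟩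
    by_cases hne : ∃ y ∈ D, ¬ Commute a y
    · obtain ⟨y₀, hy₀, hay₀⟩ := hne
      obtain ⟨g₄, hb4, hx4⟩ : ∃ g₄ : G, (∀ x, Commute x a → cj g₄ x = x) ∧ cj g₄ (e₃ y₀) = y₀ := by
        rcases P.fix_far_point ha e₃ h₃D fix₃ hy₀ hay₀ with h | h
        · exact ⟨1, fun x _ => cj_one x, by rw [cj_one, h]⟩
        · exact ⟨a, fun x h1 => (cj_eq_self_iff a x).2 h1.symm,
            by rw [h, ← cj_mul, hD.mul_self ha, cj_one]⟩
      have ha4 : ∀ x, Commute x a → (MulAut.conj g₄ * e₃) x = x := fun x h1 => by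
        show cj g₄ (e₃ x) = x
        rw [fix₃ x h1]; exact hb4 x h1
      refine ⟨g₄, fun y hy => ?_⟩
      by_cases hc : Commute a y
      · exact ha4 y hc.symm
      · obtain ⟨h, h1, rfl⟩ := P.far_pairs ha hy₀ hy hay₀ hc
        rw [aut_map_cj, ha4 h ((cj_eq_self_iff h a).1 h1), show (MulAut.conj g₄ * e₃) y₀ = y₀ from hx4]
    · push Not at hne
      exact ⟨1, fun y hy => by rw [map_one, one_mul]; exact fix₃ y (hne y hy).symm⟩
  refine ⟨(g₄ * g₃ * (k : G)⁻¹ * g)⁻¹, MulEquiv.ext fun x => ?_⟩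
  have h := hg₄ x
  simp only [hg₃, e₂, e₁, MulAut.mul_apply, MulAut.conj_apply] at h
  rw [MulAut.conj_apply]
  generalize e x = z at h
  rw [← h]
  group

/-- Conjugation identifies the group with the automorphisms of its commutator subgroup. -/
theorem conj_bijective :
    Function.Bijective (MulAut.conjNormal : G →* MulAut ↥(commutator G)) := by
  have hD := P.data
  refine ⟨(injective_iff_map_eq_one _).2 fun g hg => ?_, fun φ => ?_⟩
  · have fix : ∀ a b, a ∈ D → b ∈ D → cj g a * cj g b = a * b := fun a b ha hb => by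
      have := congrArg Subtype.val (DFunLike.congr_fun hg (P.pr ha hb))
      rw [MulAut.conjNormal_apply] at this
      rw [← cj_map_mul]; exact this
    have hl : ∀ a ∈ D, ∀ b ∈ link D a, cj g a ∈ D ∧ cj g b ∈ link D (cj g a) := fun a ha b hb =>
      ⟨hD.inv' g a ha, by rw [← link_image hD]; exact Set.mem_image_of_mem _ hb⟩
    have key := P.map_unique (f := cj g) (g := id) hl (fun a ha b hb => ⟨ha, hb⟩)
      fun a ha b hb => fix a b ha hb.1
    have := ThreeTransp.mem_center_of_commute_all P.cls.2.2 fun z hz =>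
      ((cj_eq_self_iff g z).1 (key z hz)).symm
    rwa [P.type.1, Subgroup.mem_bot] at this
  · obtain ⟨e, heD, he⟩ := P.exists_aut φ
    obtain ⟨k, rfl⟩ := P.aut_inner e heD
    refine ⟨k, MulEquiv.ext fun x => Subtype.ext ?_⟩
    rw [MulAut.conjNormal_apply, he, MulAut.conj_apply]

/-- The commutator subgroup has two classes of automorphisms. -/
theorem out_commutator : Nat.card (Cfsg.Out ↥(commutator G)) = 2 := by
  have hidx : (commutator G).index = 2 := by
    obtain ⟨d, hd, -⟩ := P.cls.2.1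
    have h := (P.card_le_two_mul ⊤).2 d (Subgroup.mem_top d) hd
    rw [top_inf_eq, Nat.card_congr (Subgroup.topEquiv.toEquiv)] at h
    have := Subgroup.card_mul_index (commutator G)
    rw [h] at this
    have hp : 0 < Nat.card ↥(commutator G) := Nat.card_pos
    nlinarith
  have hInn : Cfsg.Inn ↥(commutator G) =
      (commutator G).map (MulAut.conjNormal : G →* MulAut ↥(commutator G)) := by
    ext φ
    rw [MonoidHom.mem_range, Subgroup.mem_map]
    constructor
    · rintro ⟨x, rfl⟩
      exact ⟨x, x.2, MulAut.conjNormal_val⟩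
    · rintro ⟨x, hx, rfl⟩
      exact ⟨⟨x, hx⟩, (MulAut.conjNormal_val (h := ⟨x, hx⟩)).symm⟩
  rw [← Subgroup.index_eq_card, hInn, ← hidx]
  exact Subgroup.index_map_of_bijective P.conj_bijective (commutator G)

end M24Prim

end Cfsg.Agent.TTLink
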