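import Cfsg.Agent.TTLink.M24OutPair
import Cfsg.Agent.TTLink.M24Graph

/-!
An automorphism of the commutator subgroup of a group of type M(24) permutes the transpositions.
-/

set_option autoImplicit false

namespace Cfsg.Agent.TTLink

open Cfsg.Agent.ThreeTransp45 Cfsg.Agent.SporB OutFi

universe u

variable {G : Type u} [Group G] [Finite G] {D : Set G}

omit [Finite G] in
/-- A permutation of the transpositions preserving commuting extends to an automorphism. -/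
theorem aut_of_graph (L : LineData D) (hgen : Subgroup.closure D = ⊤) (hZ : Subgroup.center G = ⊥)
    (Φ : G → G) (hΦ : Set.BijOn Φ D D)
    (hc : ∀ x ∈ D, ∀ z ∈ D, Commute (Φ x) (Φ z) ↔ Commute x z) :
    ∃ e : MulAut G, ∀ x ∈ D, e x = Φ x := by
  have hD := L.data
  have key : ∀ x ∈ D, ∀ z ∈ D, Φ (cj x z) = cj (Φ x) (Φ z) := by
    intro x hx z hz
    by_cases h : Commute x z
    · rw [(cj_eq_self_iff x z).2 h, (cj_eq_self_iff _ _).2 ((hc x hx z hz).2 h)]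
    have hy : cj x z ∈ D := hD.inv' x z hz
    have hxy : ¬ Commute x (cj x z) := fun e => h (by
      have := (cj_commute_iff x x z).1 (by rwa [(cj_eq_self_iff x x).2 (Commute.refl x)])
      exact this)
    refine (L.unique _ (hΦ.mapsTo hx) _ (hΦ.mapsTo hz) _ (hΦ.mapsTo hy)
      (fun e => h ((hc x hx z hz).1 e)) (fun e => hxy ((hc x hx _ hy).1 e)) fun b hb => ?_).resolve_left
      fun e => ?_
    · obtain ⟨b, hbD, rfl⟩ := hΦ.surjOn hb.1.1
      refine (hc b hbD _ hy).2 ?_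
      have h1 : Commute b x := (hc b hbD x hx).1 hb.1.2.2.symm
      have h2 : Commute b z := (hc b hbD z hz).1 hb.2.2.2.symm
      rw [cj, hD.inv_eq hx]
      exact (h1.mul_right h2).mul_right h1
    · exact h ((cj_eq_self_iff x z).1 (hΦ.injOn hy hz e))
  let U : Subgroup (G × G) :=
    { carrier := {p | ∀ z ∈ D, Φ (cj p.1 z) = cj p.2 (Φ z)}
      one_mem' := fun z _ => by simp [cj]
      mul_mem' := fun {p p'} hp hp' z hz => by
        show Φ (cj (p.1 * p'.1) z) = cj (p.2 * p'.2) (Φ z)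
        rw [cj_mul, cj_mul, hp _ (hD.inv' _ _ hz), hp' z hz]
      inv_mem' := fun {p} hp z hz => by
        show Φ (cj p.1⁻¹ z) = cj p.2⁻¹ (Φ z)
        have h := hp _ (hD.inv' p.1⁻¹ z hz)
        rw [cj_cj_inv] at h
        rw [h, cj_inv_cj] }
  have hxU : ∀ x ∈ D, (x, Φ x) ∈ U := fun x hx z hz => key x hx z hz
  let f₁ : ↥U →* G := (MonoidHom.fst G G).comp U.subtype
  let f₂ : ↥U →* G := (MonoidHom.snd G G).comp U.subtype
  have h₁ : Function.Surjective f₁ := fun g => MonoidHom.mem_range.1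
    ((Subgroup.closure_le f₁.range).2 (fun x hx => ⟨⟨_, hxU x hx⟩, rfl⟩) (hgen ▸ Subgroup.mem_top g))
  have h₂ : Function.Surjective f₂ := fun g => MonoidHom.mem_range.1
    ((Subgroup.closure_le f₂.range).2 (fun x hx => by
      obtain ⟨y, hy, rfl⟩ := hΦ.surjOn hx
      exact ⟨⟨_, hxU y hy⟩, rfl⟩) (hgen ▸ Subgroup.mem_top g))
  have central : ∀ g : G, (∀ z ∈ D, cj g z = z) → g = 1 := fun g hg => by
    have := ThreeTransp.mem_center_of_commute_all hgen fun z hz => ((cj_eq_self_iff g z).1 (hg z hz)).symm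
    rwa [hZ, Subgroup.mem_bot] at this
  have i₁ : Function.Injective f₁ := (injective_iff_map_eq_one f₁).2 fun p hp => by
    have hp1 : (p : G × G).1 = 1 := hp
    refine Subtype.ext (Prod.ext hp1 (central _ fun z hz => ?_))
    obtain ⟨y, hy, rfl⟩ := hΦ.surjOn hz
    have h := p.2 y hy
    rw [hp1, cj_one] at h
    exact h.symm
  have i₂ : Function.Injective f₂ := (injective_iff_map_eq_one f₂).2 fun p hp => by
    have hp2 : (p : G × G).2 = 1 := hp
    refine Subtype.ext (Prod.ext (central _ fun z hz => ?_) hp2)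
    have h := p.2 z hz
    rw [hp2, cj_one] at h
    exact hΦ.injOn (hD.inv' _ _ hz) hz h
  let e₁ := MulEquiv.ofBijective f₁ ⟨i₁, h₁⟩
  let e₂ := MulEquiv.ofBijective f₂ ⟨i₂, h₂⟩
  refine ⟨e₁.symm.trans e₂, fun x hx => ?_⟩
  have : e₁.symm x = ⟨_, hxU x hx⟩ := e₁.symm_apply_eq.2 rfl
  rw [MulEquiv.trans_apply, this]; rfl

namespace M24Prim

variable (P : M24Prim D)
include P

/-- Two common neighbours of a commuting pair are joined by a third. -/
theorem common_path {a b c c' : G} (ha : a ∈ D) (hb : b ∈ link D a) (hc : c ∈ link D a ∩ link D b)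
    (hc' : c' ∈ link D a ∩ link D b) (h : ¬ Commute c c') :
    ∃ w ∈ link D a ∩ link D b, w ∈ link D c ∧ c' ∈ link D w := by
  obtain ⟨H, i1, i2, E, π, R⟩ := P.exists_pairQuot ha hb
  have hK : ∀ {z : G}, z ∈ link D a ∩ link D b → z ∈ Subgroup.centralizer ({a, b} : Set G) := fun hz =>
    mem_pair.2 ⟨hz.1.2.2.symm, hz.2.2.2.symm⟩
  have hC : π ⟨c, hK hc⟩ ∈ E := R.img ▸ Set.mem_image_of_mem π (show (⟨c, hK hc⟩ : ↥(Subgroup.centralizer ({a, b} : Set G))) ∈
    {z : ↥(Subgroup.centralizer ({a, b} : Set G)) | (z : G) ∈ link D a ∩ link D b} from hc)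
  have hC' : π ⟨c', hK hc'⟩ ∈ E := R.img ▸ Set.mem_image_of_mem π (show (⟨c', hK hc'⟩ : ↥(Subgroup.centralizer ({a, b} : Set G))) ∈
    {z : ↥(Subgroup.centralizer ({a, b} : Set G)) | (z : G) ∈ link D a ∩ link D b} from hc')
  have hn : ¬ Commute (π ⟨c, hK hc⟩) (π ⟨c', hK hc'⟩) := fun e => h (R.refl _ _ hc hc' e)
  obtain ⟨Y, hY1, hY2⟩ := Set.nonempty_of_ncard_ne_zero
    (by rw [R.prim.srg.far _ hC _ hC' hn]; norm_num : (link E (π ⟨c, hK hc⟩) ∩ link E (π ⟨c', hK hc'⟩)).ncard ≠ 0)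
  obtain ⟨z, hz, rfl⟩ : Y ∈ π '' {z | (z : G) ∈ link D a ∩ link D b} := R.img.symm ▸ hY1.1
  have e1 : Commute c (z : G) := R.refl ⟨c, hK hc⟩ z hc hz hY1.2.2
  have e2 : Commute (z : G) c' := R.refl z ⟨c', hK hc'⟩ hz hc' hY2.2.2.symm
  refine ⟨z, hz, ⟨hz.1.1, fun e => hY1.2.1 (congrArg π (Subtype.ext e)), e1⟩,
    hc'.1.1, fun e => hY2.2.1 (congrArg π (Subtype.ext e.symm)), e2⟩

/-- The element of the commutator subgroup given by two transpositions. -/
def pr {a b : G} (ha : a ∈ D) (hb : b ∈ D) : ↥(commutator G) := ⟨a * b, P.pair_mem_commutator ha hb⟩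

theorem pr_coe {a b : G} (ha : a ∈ D) (hb : b ∈ D) : (P.pr ha hb : G) = a * b := rfl

/-- The image of the product has the vertex `u`. -/
def Has (φ : MulAut ↥(commutator G)) {a b : G} (ha : a ∈ D) (hb : b ∈ link D a) (u : G) : Prop :=
  ∃ x ∈ link D u, (φ (P.pr ha hb.1) : G) = u * x

/-- The three products of a triangle go to those of a triangle. -/
theorem image_tri (φ : MulAut ↥(commutator G)) {a b c : G} (ha : a ∈ D) (hb : b ∈ link D a)
    (hc : c ∈ link D a ∩ link D b) :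
    ∃ u ∈ D, P.Has φ ha hb u ∧ P.Has φ ha hc.1 u := by
  have hD := P.data
  obtain ⟨h, -⟩ := P.tri_of ha hb hc (P.pr ha hb.1) (P.pr ha hc.1.1) rfl rfl
  have h' := h.map φ
  obtain ⟨p, hp, q, hq, hx⟩ := (P.isPair_iff _).1 h'.1
  obtain ⟨r, hr, s, hs, hy⟩ := (P.isPair_iff _).1 h'.2.1
  have hx' : (φ (P.pr ha hb.1) : G) = q * p := by rw [hx, hq.2.2.eq]
  have hy' : (φ (P.pr ha hc.1.1) : G) = s * r := by rw [hy, hs.2.2.eq]
  rcases P.tri_share hp hq hr hs _ _ hx hy h' with rfl | rfl | rfl | rfl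
  · exact ⟨r, hr, ⟨q, hq, hx⟩, s, hs, hy⟩
  · exact ⟨r, hr, ⟨p, link_symm hp hq, hx'⟩, s, hs, hy⟩
  · exact ⟨s, hp, ⟨q, hq, hx⟩, r, link_symm hr hs, hy'⟩
  · exact ⟨s, hs.1, ⟨p, link_symm hp hq, hx'⟩, r, link_symm hr hs, hy'⟩

/-- The common vertex passes to an adjacent common neighbour. -/
theorem has_step (φ : MulAut ↥(commutator G)) {a b c c' u : G} (ha : a ∈ D) (hb : b ∈ link D a)
    (hc : c ∈ link D a ∩ link D b) (hc' : c' ∈ link D a ∩ link D b) (hcc : c' ∈ link D c) (hu : u ∈ D)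
    (h1 : P.Has φ ha hb u) (h2 : P.Has φ ha hc.1 u) : P.Has φ ha hc'.1 u := by
  obtain ⟨v, hv, hx⟩ := h1
  obtain ⟨w, hw, hy⟩ := h2
  obtain ⟨tb, eb⟩ := P.tri_of ha hb hc (P.pr ha hb.1) (P.pr ha hc.1.1) rfl rfl
  obtain ⟨t1, -⟩ := P.tri_of ha hb hc' (P.pr ha hb.1) (P.pr ha hc'.1.1) rfl rfl
  obtain ⟨t2, -⟩ := P.tri_of ha hc.1 ⟨hc'.1, hcc⟩ (P.pr ha hc.1.1) (P.pr ha hc'.1.1) rfl rfl
  obtain ⟨r, hr, s, hs, hz⟩ := (P.isPair_iff _).1 (t1.map φ).2.1
  have hvw : v ≠ w := fun e => hc.2.2.1 (mul_left_cancel (a := a) (congrArg Subtype.val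
    (φ.injective (Subtype.ext (hx.trans (e ▸ hy.symm)))))).symm
  have fin : ∀ {y : G}, y ∈ link D v → (φ (P.pr ha hc'.1.1) : G) = v * y → P.Has φ ha hc'.1 u := by
    intro y hy' hz'
    rcases P.tri_share hu hw hv.1 hy' _ _ hy hz' (t2.map φ) with e | e | e | e
    · exact absurd e hv.2.1
    · exact absurd e hvw
    · subst e
      exact ⟨v, hv, hz'.trans hy'.2.2.eq⟩
    · subst e
      exfalso
      have e1 : (φ (P.pr ha hb.1 * P.pr ha hc.1.1) : G) = v * y := by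
        rw [map_mul, Subgroup.coe_mul, hx, hy, hv.2.2.eq, mul_assoc, ← mul_assoc u u y, P.data.mul_self hu,
          one_mul]
      have e2 := congrArg Subtype.val (φ.injective (Subtype.ext (e1.trans hz'.symm)))
      rw [eb] at e2
      rcases P.pair_eq hb.1 hc.2 ha hc'.1 e2 with ⟨k, -⟩ | ⟨-, k⟩
      · exact hb.2.1 k
      · exact hc.1.2.1 k
  have hz' : (φ (P.pr ha hc'.1.1) : G) = s * r := by rw [hz, hs.2.2.eq]
  rcases P.tri_share hu hv hr hs _ _ hx hz (t1.map φ) with e | e | e | e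
  · subst e; exact ⟨s, hs, hz⟩
  · subst e; exact fin hs hz
  · subst e; exact ⟨r, link_symm hr hs, hz'⟩
  · subst e; exact fin (link_symm hr hs) hz'

/-- The common vertex belongs to the whole common link. -/
theorem has_common (φ : MulAut ↥(commutator G)) {a b c c' u : G} (ha : a ∈ D) (hb : b ∈ link D a)
    (hc : c ∈ link D a ∩ link D b) (hc' : c' ∈ link D a ∩ link D b) (hu : u ∈ D)
    (h1 : P.Has φ ha hb u) (h2 : P.Has φ ha hc.1 u) : P.Has φ ha hc'.1 u := by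
  by_cases e : c' = c
  · subst e; exact h2
  by_cases h : Commute c c'
  · exact P.has_step φ ha hb hc hc' ⟨hc'.1.1, e, h⟩ hu h1 h2
  obtain ⟨w, hw, hcw, hwc⟩ := P.common_path ha hb hc hc' h
  exact P.has_step φ ha hb hw hc' hwc hu h1 (P.has_step φ ha hb hc hw hcw hu h1 h2)

/-- A transposition has an image. -/
theorem exists_vertex (φ : MulAut ↥(commutator G)) {a : G} (ha : a ∈ D) :
    ∃ u ∈ D, ∀ b (hb : b ∈ link D a), P.Has φ ha hb u := by
  obtain ⟨b₀, hb₀⟩ := P.linked ha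
  obtain ⟨c₀, hc₀⟩ := Set.nonempty_of_ncard_ne_zero
    (by rw [P.srg.adj a ha b₀ hb₀]; norm_num : (link D a ∩ link D b₀).ncard ≠ 0)
  obtain ⟨u, hu, h1, h2⟩ := P.image_tri φ ha hb₀ hc₀
  refine ⟨u, hu, fun b hb => ?_⟩
  by_cases e : b = b₀
  · subst e; exact h1
  by_cases h : Commute b₀ b
  · exact P.has_common φ ha hb₀ hc₀ (c' := b) ⟨hb, hb.1, e, h⟩ hu h1 h2
  obtain ⟨w, hwa, hw0, hwb⟩ := Set.nonempty_of_ncard_ne_zero
    (by rw [P.common_three hb₀.1 hb.1 h ⟨link_symm ha hb₀, link_symm ha hb⟩]; norm_num :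
      (link D a ∩ (link D b₀ ∩ link D b)).ncard ≠ 0)
  exact P.has_common φ ha hwa (c := b₀) ⟨hb₀, link_symm hb₀.1 hw0⟩ (c' := b) ⟨hb, link_symm hb.1 hwb⟩ hu
    (P.has_common φ ha hb₀ hc₀ ⟨hwa, hw0⟩ hu h1 h2) h1

/-- An automorphism acts on pairs through a map of the transpositions. -/
theorem exists_map (φ : MulAut ↥(commutator G)) :
    ∃ f : G → G, ∀ a (ha : a ∈ D) b (hb : b ∈ link D a),
      f a ∈ D ∧ f b ∈ link D (f a) ∧ (φ (P.pr ha hb.1) : G) = f a * f b := by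
  classical
  choose f hfD hf using fun a : {a : G // a ∈ D} => P.exists_vertex φ a.2
  let F : G → G := fun a => if h : a ∈ D then f ⟨a, h⟩ else 1
  have hF : ∀ a (ha : a ∈ D), F a = f ⟨a, ha⟩ := fun a ha => dif_pos ha
  refine ⟨F, fun a ha b hb => ⟨hF a ha ▸ hfD _, ?_⟩⟩
  rw [hF a ha, hF b hb.1]
  have hba := link_symm ha hb
  obtain ⟨x, hx, e1⟩ := hf ⟨a, ha⟩ b hb
  obtain ⟨y, hy, e2⟩ := hf ⟨b, hb.1⟩ a hba
  have hcomm : P.pr hb.1 ha = P.pr ha hb.1 := Subtype.ext hb.2.2.eq.symm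
  rw [hcomm, e1] at e2
  rcases P.pair_eq (hfD _) hx (hfD _) hy e2 with ⟨k, -⟩ | ⟨-, k⟩
  · exfalso
    obtain ⟨c, hc⟩ := Set.nonempty_of_ncard_ne_zero
      (by rw [P.srg.adj a ha b hb]; norm_num : (link D a ∩ link D b).ncard ≠ 0)
    obtain ⟨w, hw, e3⟩ := hf ⟨a, ha⟩ c hc.1
    obtain ⟨z, hz, e4⟩ := hf ⟨b, hb.1⟩ c hc.2
    obtain ⟨tt, eb⟩ := P.tri_of ha hb hc (P.pr ha hb.1) (P.pr ha hc.1.1) rfl rfl
    have e5 : P.pr hb.1 hc.2.1 = P.pr ha hb.1 * P.pr ha hc.1.1 := Subtype.ext eb.symm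
    have hxw : w ∈ link D x := by
      have h' := tt.map φ
      refine ⟨hw.1, fun e => hc.2.2.1 ?_, ?_⟩
      · have k' : P.pr ha hc.1.1 = P.pr ha hb.1 := φ.injective (Subtype.ext (by rw [e3, e, e1]))
        exact mul_left_cancel (a := a) (congrArg Subtype.val k')
      · have h4 : (φ (P.pr ha hb.1) : G) * φ (P.pr ha hc.1.1) = φ (P.pr ha hc.1.1) * φ (P.pr ha hb.1) :=
          congrArg Subtype.val h'.2.2.2.1.eq
        rw [e1, e3, hx.2.2.eq, mul_assoc, ← mul_assoc (f ⟨a, ha⟩) (f ⟨a, ha⟩) w, P.data.mul_self (hfD _),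
          one_mul] at h4
        rw [hw.2.2.eq, mul_assoc, ← mul_assoc (f ⟨a, ha⟩) x (f ⟨a, ha⟩), hx.2.2.eq, mul_assoc,
          P.data.mul_self (hfD _), mul_one] at h4
        exact h4
    rw [e5, map_mul, Subgroup.coe_mul, e1, e3, hx.2.2.eq, mul_assoc, ← mul_assoc (f ⟨a, ha⟩) (f ⟨a, ha⟩) w,
      P.data.mul_self (hfD _), one_mul, ← k] at e4
    rcases P.pair_eq hx.1 hxw (hfD _) (k ▸ hz) e4 with ⟨j, -⟩ | ⟨-, j⟩
    · exact hx.2.1 j
    · exact hw.2.1 j
  · subst k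
    exact ⟨hx, e1⟩

/-- Every transposition has a linked triangle; maps acting on the same pairs agree. -/
theorem map_unique {f g : G → G}
    (hf : ∀ a ∈ D, ∀ b ∈ link D a, f a ∈ D ∧ f b ∈ link D (f a))
    (hg : ∀ a ∈ D, ∀ b ∈ link D a, g a ∈ D ∧ g b ∈ link D (g a))
    (h : ∀ a ∈ D, ∀ b ∈ link D a, f a * f b = g a * g b) : ∀ a ∈ D, f a = g a := by
  intro a ha
  obtain ⟨b, hb⟩ := P.linked ha
  obtain ⟨c, hc⟩ := Set.nonempty_of_ncard_ne_zero
    (by rw [P.srg.adj a ha b hb]; norm_num : (link D a ∩ link D b).ncard ≠ 0)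
  rcases P.pair_eq (hf a ha b hb).1 (hf a ha b hb).2 (hg a ha b hb).1 (hg a ha b hb).2 (h a ha b hb) with
    ⟨e, -⟩ | ⟨e, -⟩
  · exact e
  rcases P.pair_eq (hf a ha c hc.1).1 (hf a ha c hc.1).2 (hg a ha c hc.1).1 (hg a ha c hc.1).2
    (h a ha c hc.1) with ⟨e', -⟩ | ⟨e', -⟩
  · exact e'
  exact absurd (e'.symm.trans e) (hg b hb.1 c hc.2).2.2.1

/-- Pair products generate the commutator subgroup. -/
theorem pair_gen {M : Type*} [Group M] {ψ ψ' : ↥(commutator G) →* M}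
    (h : ∀ a (ha : a ∈ D) b (hb : b ∈ link D a), ψ (P.pr ha hb.1) = ψ' (P.pr ha hb.1)) : ψ = ψ' := by
  have hD := P.data
  let K : Subgroup G := (MonoidHom.eqLocus ψ ψ').map (commutator G).subtype
  have near : ∀ x y, x ∈ D → y ∈ D → Commute x y → x * y ∈ K := fun x y hx hy hc => by
    by_cases e : y = x
    · rw [e, hD.mul_self hx]; exact one_mem _
    · exact ⟨P.pr hx hy, h x hx y ⟨hy, e, hc⟩, rfl⟩
  have pair : ∀ x y, x ∈ D → y ∈ D → x * y ∈ K := fun x y hx hy => by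
    by_cases hc : Commute x y
    · exact near x y hx hy hc
    obtain ⟨w, hw⟩ := P.common_nonempty hx hy hc
    have := mul_mem (near x w hx hw.1.1 hw.1.2.2) (near w y hw.1.1 hy hw.2.2.2.symm)
    rwa [mul_assoc, ← mul_assoc w w y, hD.mul_self hw.1.1, one_mul] at this
  obtain ⟨d, hd, -⟩ := P.cls.2.1
  have step : ∀ x ∈ D, ∀ y, y ∈ K ∨ d * y ∈ K → x * y ∈ K ∨ d * (x * y) ∈ K := by
    rintro x hx y (hy | hy)
    · exact Or.inr (by rw [← mul_assoc]; exact mul_mem (pair d x hd hx) hy)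
    · refine Or.inl ?_
      have := mul_mem (pair x d hx hd) hy
      rwa [mul_assoc, ← mul_assoc d d y, hD.mul_self hd, one_mul] at this
  have all : ∀ g : G, g ∈ K ∨ d * g ∈ K := fun g => by
    induction (show g ∈ Subgroup.closure D from P.cls.2.2 ▸ Subgroup.mem_top g) using
      Subgroup.closure_induction_left with
    | one => exact Or.inl (one_mem _)
    | mul_left x hx y _ ih => exact step x hx y ih
    | inv_mul_cancel x hx y _ ih => rw [hD.inv_eq hx]; exact step x hx y ih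
  refine MonoidHom.ext fun x => ?_
  rcases all x with hx | ⟨z, -, hz⟩
  · obtain ⟨z, hz, e⟩ := hx
    obtain rfl : z = x := Subtype.ext e
    exact hz
  · exact absurd (show d ∈ commutator G by
      have h1 : d * (x : G) ∈ commutator G := hz ▸ z.2
      simpa using mul_mem h1 (inv_mem x.2)) (P.class_not_mem_commutator hd)

/-- An automorphism of the commutator subgroup is induced by one preserving the transpositions. -/
theorem exists_aut (φ : MulAut ↥(commutator G)) :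
    ∃ e : MulAut G, (∀ x ∈ D, e x ∈ D) ∧ ∀ x : ↥(commutator G), (φ x : G) = e x := by
  obtain ⟨f, hf⟩ := P.exists_map φ
  obtain ⟨f', hf'⟩ := P.exists_map φ.symm
  have hmaps : Set.MapsTo f D D := fun a ha => by
    obtain ⟨b, hb⟩ := P.linked ha
    exact (hf a ha b hb).1
  have inv : ∀ {ψ : MulAut ↥(commutator G)} {p q : G → G},
      (∀ a (ha : a ∈ D) b (hb : b ∈ link D a),
        p a ∈ D ∧ p b ∈ link D (p a) ∧ (ψ (P.pr ha hb.1) : G) = p a * p b) →
      (∀ a (ha : a ∈ D) b (hb : b ∈ link D a),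
        q a ∈ D ∧ q b ∈ link D (q a) ∧ (ψ.symm (P.pr ha hb.1) : G) = q a * q b) →
      ∀ a ∈ D, q (p a) = a := by
    intro ψ p q hp hq
    refine P.map_unique (fun a ha b hb => ?_) (fun a ha b hb => ⟨ha, hb⟩) fun a ha b hb => ?_
    · obtain ⟨h1, h2, -⟩ := hp a ha b hb
      exact ⟨(hq _ h1 _ h2).1, (hq _ h1 _ h2).2.1⟩
    · obtain ⟨h1, h2, h3⟩ := hp a ha b hb
      rw [← (hq _ h1 _ h2).2.2, show P.pr h1 h2.1 = ψ (P.pr ha hb.1) from Subtype.ext h3.symm,
        ψ.symm_apply_apply]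
      rfl
  have l := inv hf hf'
  have r : ∀ a ∈ D, f (f' a) = a := inv (ψ := φ.symm) hf' (by simpa using hf)
  have hbij : Set.BijOn f D D := ⟨hmaps,
    fun x hx y hy e => by rw [← l x hx, e, l y hy],
    fun y hy => by
      obtain ⟨b, hb⟩ := P.linked hy
      exact ⟨f' y, (hf' y hy b hb).1, r y hy⟩⟩
  obtain ⟨e, he⟩ := aut_of_graph P.lineData P.cls.2.2 P.type.1 f hbij fun x hx z hz => by
    by_cases k : z = x
    · subst k; exact iff_of_true (Commute.refl _) (Commute.refl _)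
    refine ⟨fun h => ?_, fun h => (hf x hx z ⟨hz, k, h⟩).2.1.2.2⟩
    have := (hf' (f x) (hmaps hx) (f z) ⟨hmaps hz, fun t => k (hbij.injOn hz hx t), h⟩).2.1.2.2
    rwa [l x hx, l z hz] at this
  refine ⟨e, fun x hx => he x hx ▸ hmaps hx, ?_⟩
  have key : (commutator G).subtype.comp φ.toMonoidHom = e.toMonoidHom.comp (commutator G).subtype :=
    P.pair_gen fun a ha b hb => by
      show (φ (P.pr ha hb.1) : G) = e (a * b)
      rw [(hf a ha b hb).2.2, map_mul, he a ha, he b hb.1]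
  exact fun x => DFunLike.congr_fun key x

end M24Prim

end Cfsg.Agent.TTLink
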