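import Cfsg.Agent.TTLink.M24Cores
import Cfsg.Agent.TTLink.M24Classes
import Cfsg.Agent.TTLink.M23Pair
import Cfsg.Agent.Components.FStar
import Cfsg.Agent.S0815

/-!
The joint centraliser of three commuting transpositions in a primitive group of type M(24) whose
transpositions lie outside the commutator subgroup, and the centraliser of their product.
-/

set_option autoImplicit false

namespace Cfsg.Agent.TTLink

open Cfsg.Agent.ThreeTransp45 Cfsg.Agent.SporB UnitarySix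

/-- A normal quasisimple subgroup containing its centraliser is the generalized Fitting subgroup. -/
theorem genFitting_eq_of_quasisimple {C : Type*} [Group C] [Finite C] {K : Subgroup C} [hn : K.Normal]
    (hK : Cfsg.IsQuasisimple ↥K) (hc : Subgroup.centralizer (K : Set C) ≤ K) :
    Cfsg.generalizedFittingSubgroup C = K := by
  have hcomp : Cfsg.IsComponent K := ⟨hn.isSubnormal, hK⟩
  have hle : ∀ H : Subgroup C, ⁅K, H⁆ = ⊥ → H ≤ K := fun H h =>
    (Subgroup.commutator_eq_bot_iff_le_centralizer.1 (by rw [Subgroup.commutator_comm]; exact h)).trans hc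
  refine le_antisymm (sup_le (Components.layer_le_iff.2 fun L hL => ?_) ?_)
    (le_sup_of_le_left (Components.component_le_layer hcomp))
  · rcases eq_or_ne K L with rfl | hne
    · exact le_rfl
    · exact hle L (Components.component_commute hcomp hL hne)
  · refine sSup_le fun N hN => hle N ?_
    have : Group.IsNilpotent ↥N := hN.2
    have := hN.1
    exact Components.component_centralizes_solvable hcomp inferInstance
      Subgroup.le_normalizer_of_normal

variable {G : Type*} [Group G] [Finite G] {D : Set G}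

namespace M23Prim

variable (P : M23Prim D)
include P

/-- Six members, commuting with `b`, of the link of `d`, with product `d`. -/
theorem six_pair {d b : G} (hd : d ∈ D) (hb : b ∈ link D d) :
    ∃ s : List G, Fac D s ∧ s.length = 6 ∧ s.prod = d ∧
      ∀ y ∈ s, y ∈ link D d ∧ y ≠ b ∧ Commute y b := by
  classical
  have hD := P.data
  have PX := P.base_all hd
  obtain ⟨hnc, hinj⟩ := injOn_link hD P.cl P.twinFree hd
  let q := QuotientGroup.mk' (Subgroup.center ↥(Subgroup.closure (link D d)))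
  set B : ↥(Subgroup.closure (link D d)) := ⟨b, Subgroup.subset_closure hb⟩
  have hB : B ∈ linkSet D d := hb
  obtain ⟨F, i1, i2, hF, hcov, -⟩ := PX.covers
  obtain ⟨cv⟩ := hcov (q B) ⟨B, hB, rfl⟩
  obtain ⟨s, hsf, hsl, hslink, hsp⟩ := PX.six_link (⟨B, hB, rfl⟩ : q B ∈ linkQuot D d) cv
  obtain ⟨t, htm, htl, htf, -⟩ := P.lift_fac hd hsf
  have hval : (t.map Subtype.val).prod = ((t.prod : ↥(Subgroup.closure (link D d))) : G) :=
    (map_list_prod (Subgroup.closure (link D d)).subtype t).symm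
  have hlen : (t.map Subtype.val).length = 6 := by
    rw [List.length_map, ← List.length_map (f := q), htm, hsl]
  refine ⟨t.map Subtype.val, htf, hlen, ?_, ?_⟩
  · have h1 : q t.prod = 1 := by rw [map_list_prod, htm, hsp]
    rw [hval]
    refine (P.layer.center_link P.l3 hd (mk_eq_one_iff.1 h1)).resolve_left fun h => ?_
    exact P.indep_six _ htf.nodup hlen htf.mem htf.comm (hval.trans h)
  · intro y hy
    obtain ⟨x, hx, rfl⟩ := List.mem_map.1 hy
    have h := hslink (q x) (htm ▸ List.mem_map_of_mem hx)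
    exact ⟨htl x hx, fun e => h.2.1 (congrArg q (Subtype.ext e)),
      (commute_reflect hD hB (show x ∈ linkSet D d from htl x hx) h.2.2).symm⟩

end M23Prim

namespace M24Prim

variable (P : M24Prim D)
include P

/-- Six transpositions commuting with a triple, with product of two of its members. -/
theorem six_triple {a b c : G} (ha : a ∈ D) (hb : b ∈ link D a) (hc : c ∈ link D a) (hbc : b ≠ c)
    (hcom : Commute b c) :
    ∃ s : List G, s.prod = b * a ∧
      ∀ y ∈ s, y ∈ D ∧ y ≠ a ∧ y ≠ b ∧ y ≠ c ∧ Commute y a ∧ Commute y b ∧ Commute y c := by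
  classical
  have hD := P.data
  obtain ⟨hnc, hinj⟩ := injOn_link hD P.cl P.twinFree ha
  let q := QuotientGroup.mk' (Subgroup.center ↥(Subgroup.closure (link D a)))
  set B : ↥(Subgroup.closure (link D a)) := ⟨b, Subgroup.subset_closure hb⟩
  set C : ↥(Subgroup.closure (link D a)) := ⟨c, Subgroup.subset_closure hc⟩
  have hB : B ∈ linkSet D a := hb
  have hC : C ∈ linkSet D a := hc
  have hBC : q C ∈ link (linkQuot D a) (q B) :=
    ⟨⟨C, hC, rfl⟩, fun e => hbc (congrArg Subtype.val (hinj hC hB e)).symm,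
      (show Commute B C from Subtype.ext hcom.eq).map q⟩
  obtain ⟨s, hsf, hsl, hsp, hs⟩ := (P.base ha).six_pair (show q B ∈ linkQuot D a from ⟨B, hB, rfl⟩) hBC
  obtain ⟨t, htm, htl, htf, hat⟩ := lift_link hD hsf
  have hmem : ∀ x ∈ t, q x ∈ s := fun x hx => htm ▸ List.mem_map_of_mem hx
  have hxb : ∀ x ∈ t, (x : G) ≠ b ∧ Commute (x : G) b ∧ (x : G) ≠ c ∧ Commute (x : G) c := by
    intro x hx
    obtain ⟨h1, h2, h3⟩ := hs (q x) (hmem x hx)
    have hxl : x ∈ linkSet D a := htl x hx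
    exact ⟨fun e => h1.2.1 (congrArg q (Subtype.ext e)), (commute_reflect hD hB hxl h1.2.2).symm,
      fun e => h2 (congrArg q (Subtype.ext e)), commute_reflect hD hxl hC h3⟩
  refine ⟨t.map Subtype.val, ?_, fun y hy => ?_⟩
  · have hval : (t.map Subtype.val).prod = ((t.prod : ↥(Subgroup.closure (link D a))) : G) :=
      (map_list_prod (Subgroup.closure (link D a)).subtype t).symm
    rcases (P.mk_eq_one_iff' ha).1 (show q (B⁻¹ * t.prod) = 1 by
      rw [map_mul, map_inv, map_list_prod, htm, hsp, inv_mul_cancel]) with h | h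
    · exfalso
      rw [Subgroup.coe_mul, Subgroup.coe_inv, inv_mul_eq_one] at h
      have hb' : b = (t.map Subtype.val).prod := h.trans hval.symm
      refine P.indeps 7 (by norm_num) le_rfl (b :: t.map Subtype.val)
        (List.nodup_cons.2 ⟨fun hm => ?_, htf.nodup⟩) ?_ (List.forall_mem_cons.2 ⟨hb.1, htf.mem⟩) ?_ ?_
      · obtain ⟨x, hx, e⟩ := List.mem_map.1 hm
        exact (hxb x hx).1 e
      · rw [List.length_cons, List.length_map, ← List.length_map (f := q), htm, hsl]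
      · intro u hu v hv
        have hxy : ∀ w ∈ t.map Subtype.val, Commute b w := fun w hw => by
          obtain ⟨x, hx, rfl⟩ := List.mem_map.1 hw
          exact (hxb x hx).2.1.symm
        rcases List.mem_cons.1 hu with e | hu <;> rcases List.mem_cons.1 hv with e' | hv
        · rw [e, e']
        · rw [e]; exact hxy v hv
        · rw [e']; exact (hxy u hu).symm
        · exact htf.comm u hu v hv
      · rw [List.prod_cons, ← hb', hD.mul_self hb.1]
    · rw [Subgroup.coe_mul, Subgroup.coe_inv, inv_mul_eq_iff_eq_mul] at h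
      rw [hval]; exact h
  · obtain ⟨x, hx, rfl⟩ := List.mem_map.1 hy
    obtain ⟨h1, h2, h3, h4⟩ := hxb x hx
    exact ⟨(htl x hx).1, (htl x hx).2.1, h1, h3, (htl x hx).2.2.symm, h2, h4⟩

/-- The joint centraliser of three commuting transpositions modulo them. -/
theorem triple_proj {d₁ d₂ d₃ : G} (h₁ : d₁ ∈ D) (h₂ : d₂ ∈ link D d₁) (h₃ : d₃ ∈ link D d₁)
    (h23 : d₂ ≠ d₃) (c23 : Commute d₂ d₃) (K₃ : Subgroup G)
    (hK₃ : K₃ = Subgroup.centralizer ({d₁, d₂, d₃} : Set G)) :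
    ∃ (F : Type) (_ : Field F) (_ : Fintype F) (_ : Fintype.card F = 4) (π : ↥K₃ →* Cfsg.PSU 6 F 2),
      Function.Surjective π ∧
      (∀ k, π k = 1 ↔ ((k : G) = 1 ∨ (k : G) = d₁ ∨ (k : G) = d₂ ∨ (k : G) = d₂ * d₁ ∨
        (k : G) = d₃ ∨ (k : G) = d₃ * d₁ ∨ (k : G) = d₃ * d₂ ∨ (k : G) = d₃ * d₂ * d₁)) ∧
      (∀ k : ↥K₃, ∃ c ∈ commutator ↥K₃, (k : G) = c ∨ (k : G) = c * d₁) ∧
      ∀ y y' : ↥K₃, (y : G) ∈ D → (y : G) ∉ [d₁, d₂, d₃] → (y' : G) ∈ D → (y' : G) ∉ [d₁, d₂, d₃] →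
        π y = π y' → y = y' := by
  classical
  have hD := P.data
  obtain ⟨hnc, hinj⟩ := injOn_link hD P.cl P.twinFree h₁
  let q := QuotientGroup.mk' (Subgroup.center ↥(Subgroup.closure (link D d₁)))
  set B : ↥(Subgroup.closure (link D d₁)) := ⟨d₂, Subgroup.subset_closure h₂⟩
  set C : ↥(Subgroup.closure (link D d₁)) := ⟨d₃, Subgroup.subset_closure h₃⟩
  have hB : B ∈ linkSet D d₁ := h₂
  have hC : C ∈ linkSet D d₁ := h₃
  have hBC : q C ∈ link (linkQuot D d₁) (q B) :=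
    ⟨⟨C, hC, rfl⟩, fun e => h23 (congrArg Subtype.val (hinj hC hB e)).symm,
      (show Commute B C from Subtype.ext c23.eq).map q⟩
  obtain ⟨F, i1, i2, hF, π, hπ, hker, hperf, hinjM, -⟩ :=
    (P.base h₁).pair_structure (show q B ∈ linkQuot D d₁ from ⟨B, hB, rfl⟩) hBC _ rfl
  have hK : ∀ k : ↥K₃, Commute (k : G) d₁ ∧ Commute (k : G) d₂ ∧ Commute (k : G) d₃ := fun k => by
    obtain ⟨k, hk⟩ := k
    rw [hK₃, Subgroup.mem_centralizer_iff] at hk
    exact ⟨(hk d₁ (by simp)).symm, (hk d₂ (by simp)).symm, (hk d₃ (by simp)).symm⟩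
  let up : ↥K₃ → ↥(Subgroup.closure (link D d₁)) := fun k => ⟨k, P.mem_link_of_commute h₁ (hK k).1⟩
  let θ : ↥K₃ →* ↥(Subgroup.centralizer ({q B, q C} : Set _)) := MonoidHom.mk'
    (fun k => ⟨q (up k), by
      rw [Subgroup.mem_centralizer_iff]
      rintro z (rfl | rfl)
      · exact ((show Commute B (up k) from Subtype.ext (hK k).2.1.eq.symm).map q).eq
      · exact ((show Commute C (up k) from Subtype.ext (hK k).2.2.eq.symm).map q).eq⟩)
    fun k k' => Subtype.ext (map_mul q (up k) (up k'))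
  have θs : Function.Surjective θ := by
    rintro ⟨x, hx⟩
    obtain ⟨h, rfl⟩ := QuotientGroup.mk_surjective x
    rw [Subgroup.mem_centralizer_iff] at hx
    have hfix : ∀ A : ↥(Subgroup.closure (link D d₁)), A ∈ linkSet D d₁ → Commute (q h) (q A) →
        Commute (h : G) A := fun A hA hc => (cj_eq_self_iff (h : G) (A : G)).1 (congrArg Subtype.val
      (hinj (conj_linkSet hD h hA) hA
        ((show q (h * A * h⁻¹) = cj (q h) (q A) by simp [cj]).trans ((cj_eq_self_iff _ _).2 hc))))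
    refine ⟨⟨h, ?_⟩, Subtype.ext rfl⟩
    rw [hK₃, Subgroup.mem_centralizer_iff]
    rintro z (rfl | rfl | rfl)
    · exact (commute_d h.2).eq
    · exact (hfix B hB (hx (q B) (Or.inl rfl)).symm).eq.symm
    · exact (hfix C hC (hx (q C) (Or.inr rfl)).symm).eq.symm
  have hc12 : d₁ * d₂ = d₂ * d₁ := h₂.2.2.eq
  have hc13 : d₁ * d₃ = d₃ * d₁ := h₃.2.2.eq
  have qsplit : ∀ z : ↥(Subgroup.closure (link D d₁)), q z = 1 ↔ ((z : G) = 1 ∨ (z : G) = d₁) :=
    fun z => P.mk_eq_one_iff' h₁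
  refine ⟨F, i1, i2, hF, π.comp θ, hπ.comp θs, fun k => ?_, fun k => ?_, ?_⟩
  · show π (θ k) = 1 ↔ _
    rw [hker]
    show q (up k) = 1 ∨ q (up k) = q B ∨ q (up k) = q C ∨ q (up k) = q C * q B ↔ _
    rw [show q (up k) = q B ↔ q (B⁻¹ * up k) = 1 by rw [map_mul, map_inv, inv_mul_eq_one, eq_comm],
      show q (up k) = q C ↔ q (C⁻¹ * up k) = 1 by rw [map_mul, map_inv, inv_mul_eq_one, eq_comm],
      show q (up k) = q C * q B ↔ q ((C * B)⁻¹ * up k) = 1 by
        rw [← map_mul, map_mul q _ (up k), map_inv, inv_mul_eq_one, eq_comm],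
      qsplit, qsplit, qsplit, qsplit]
    show ((k : G) = 1 ∨ (k : G) = d₁) ∨ (d₂⁻¹ * (k : G) = 1 ∨ d₂⁻¹ * (k : G) = d₁) ∨
      (d₃⁻¹ * (k : G) = 1 ∨ d₃⁻¹ * (k : G) = d₁) ∨
      ((d₃ * d₂)⁻¹ * (k : G) = 1 ∨ (d₃ * d₂)⁻¹ * (k : G) = d₁) ↔ _
    simp only [inv_mul_eq_iff_eq_mul, mul_one, or_assoc]
  · have hm : θ k ∈ (commutator ↥K₃).map θ := by
      rw [commutator_def, Subgroup.map_commutator, Subgroup.map_top_of_surjective θ θs,
        ← commutator_def, hperf]
      trivial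
    obtain ⟨c, hc, hck⟩ := hm
    refine ⟨c, hc, ?_⟩
    have h1 : q (up (c⁻¹ * k)) = 1 :=
      congrArg Subtype.val (show θ (c⁻¹ * k) = 1 by rw [map_mul, map_inv, hck, inv_mul_cancel])
    rcases (qsplit _).1 h1 with e | e
    · left
      exact (inv_mul_eq_one.1 (show (c : G)⁻¹ * k = 1 from e)).symm
    · right
      exact inv_mul_eq_iff_eq_mul.1 (show (c : G)⁻¹ * k = d₁ from e)
  · intro y y' hy hyn hy' hyn' e
    have key : ∀ y : ↥K₃, (y : G) ∈ D → (y : G) ∉ [d₁, d₂, d₃] →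
        up y ∈ linkSet D d₁ ∧ (θ y).1 ∈ link (linkQuot D d₁) (q B) ∧ (θ y).1 ≠ q C := by
      intro y hy hyn
      simp only [List.mem_cons, List.not_mem_nil, or_false, not_or] at hyn
      have hl : up y ∈ linkSet D d₁ := ⟨hy, hyn.1, (hK y).1.symm⟩
      exact ⟨hl, ⟨⟨up y, hl, rfl⟩, fun h => hyn.2.1 (congrArg Subtype.val (hinj hl hB h)),
        ((show Commute B (up y) from Subtype.ext (hK y).2.1.eq.symm).map q)⟩,
        fun h => hyn.2.2 (congrArg Subtype.val (hinj hl hC h))⟩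
    obtain ⟨hl, h1, h2⟩ := key y hy hyn
    obtain ⟨hl', h1', h2'⟩ := key y' hy' hyn'
    have e1 := congrArg Subtype.val (hinjM (θ y) (θ y') h1 h2 h1' h2' e)
    exact Subtype.ext (congrArg Subtype.val (hinj hl hl' e1) :)

/-- Outside the commutator subgroup there is one coset. -/
theorem mem_commutator_or {d : G} (hd : d ∈ D) (g : G) : g ∈ commutator G ∨ g * d ∈ commutator G := by
  have hg : g ∈ Subgroup.closure D := by rw [P.grp.2.2]; trivial
  simp only [← Abelianization.ker_of G, MonoidHom.mem_ker, map_mul]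
  have hdd : Abelianization.of d * Abelianization.of d = 1 := by
    rw [← map_mul, P.data.mul_self hd, map_one]
  have hinv : (Abelianization.of d)⁻¹ = Abelianization.of d := inv_eq_of_mul_eq_one_right hdd
  induction hg using Subgroup.closure_induction with
  | mem y hy =>
    obtain ⟨k, rfl⟩ := P.cl d hd y hy
    right
    rw [cj, map_mul, map_mul, map_inv, mul_comm (Abelianization.of k), mul_inv_cancel_right, hdd]
  | one => exact Or.inl (map_one _)
  | mul x y _ _ hx hy =>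
    rw [map_mul]
    rcases hx with hx | hx <;> rcases hy with hy | hy
    · left; rw [hx, hy, one_mul]
    · right; rw [hx, one_mul, hy]
    · right; rw [hy, mul_one, hx]
    · left
      rw [mul_eq_one_iff_eq_inv] at hx hy
      rw [hx, hy, hinv, hdd]
  | inv x _ hx =>
    rw [map_inv]
    rcases hx with hx | hx
    · left; rw [hx, inv_one]
    · right
      rw [mul_eq_one_iff_eq_inv] at hx
      rw [hx, inv_inv, hdd]

/-- The centraliser of the product of three commuting transpositions. -/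
theorem triple_structure {d₁ d₂ d₃ : G} (h₁ : d₁ ∈ D) (h₂ : d₂ ∈ link D d₁) (h₃ : d₃ ∈ link D d₁)
    (h23 : d₂ ≠ d₃) (c23 : Commute d₂ d₃) (hpar : ∀ d ∈ D, d ∉ commutator G) (E CL K : Subgroup G)
    (hE : E = Subgroup.closure ({d₁ * d₂, d₁ * d₃} : Set G))
    (hCL : CL = commutator G ⊓ Subgroup.centralizer ({d₁ * d₂ * d₃} : Set G))
    (hK : K = (Cfsg.generalizedFittingSubgroup ↥CL).map CL.subtype) :
    Cfsg.IsQuasisimple ↥K ∧ (Subgroup.center ↥K).map K.subtype = E ∧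
      K = commutator G ⊓ Subgroup.centralizer (E : Set G) ∧
      (∃ (_ : (E.subgroupOf K).Normal) (F : Type) (_ : Field F) (_ : Fintype F),
        Fintype.card F = 4 ∧ Nonempty (↥K ⧸ E.subgroupOf K ≃* Cfsg.PSU 6 F 2)) ∧
      ∃ _ : (K.subgroupOf CL).Normal, Nonempty (↥CL ⧸ K.subgroupOf CL ≃* Equiv.Perm (Fin 3)) ∧
        E ≤ CL ∧ ∃ (_ : (E.subgroupOf CL).Normal) (F : Type) (_ : Field F) (_ : Fintype F),
          Fintype.card F = 4 ∧ Nonempty (↥CL ⧸ E.subgroupOf CL ≃* MulAut (Cfsg.PSU 6 F 2)) := by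
  classical
  have hD := P.data
  set L := commutator G
  have hLn : L.Normal := inferInstanceAs (commutator G).Normal
  have hd₂ : d₂ ∈ D := h₂.1
  have hd₃ : d₃ ∈ D := h₃.1
  have c12 : Commute d₁ d₂ := h₂.2.2
  have c13 : Commute d₁ d₃ := h₃.2.2
  set K₃ := Subgroup.centralizer ({d₁, d₂, d₃} : Set G) with hK₃
  obtain ⟨F, i1, i2, hF, π, hπ, hker, hcases, hinjM⟩ :=
    P.triple_proj h₁ h₂ h₃ h23 c23 K₃ hK₃
  have mem3 : ∀ g : G, g ∈ K₃ ↔ Commute g d₁ ∧ Commute g d₂ ∧ Commute g d₃ := fun g => by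
    rw [hK₃, Subgroup.mem_centralizer_iff]
    simp only [Set.mem_insert_iff, Set.mem_singleton_iff, forall_eq_or_imp, forall_eq]
    exact ⟨fun h => ⟨h.1.symm, h.2.1.symm, h.2.2.symm⟩, fun h => ⟨h.1.symm, h.2.1.symm, h.2.2.symm⟩⟩
  have mL : ∀ {a b : G}, a ∈ D → b ∈ D → a * b ∈ L := fun {a b} ha hb =>
    (P.mem_commutator_or hb a).resolve_left (hpar a ha)
  have pairs : ∀ {a b a' b' : G}, Fac D [a, b] → Fac D [a', b'] → a * b = a' * b' →
      a = a' ∨ a = b' := fun {a b a' b'} h h' e => by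
    have := (factors_unique hD 2 (by norm_num) (fun k k1 k2 => P.indeps (2 * k) (by omega) (by omega))
      [a, b] [a', b'] h h' rfl rfl (by simpa using e) a).1 (by simp)
    simpa using this
  have f12 : Fac D [d₁, d₂] := ⟨by simp [h₂.2.1.symm], by simp [h₁, hd₂], by simp [c12, c12.symm]⟩
  have f13 : Fac D [d₁, d₃] := ⟨by simp [h₃.2.1.symm], by simp [h₁, hd₃], by simp [c13, c13.symm]⟩
  have f123 : Fac D [d₁, d₂, d₃] := ⟨by simp [h₂.2.1.symm, h₃.2.1.symm, h23], by simp [h₁, hd₂, hd₃],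
    by simp [c12, c12.symm, c13, c13.symm, c23, c23.symm]⟩
  -- the centraliser of `E`
  have hcE : Subgroup.centralizer (E : Set G) = K₃ := by
    rw [hE, Subgroup.centralizer_closure]
    ext g
    rw [mem3, Subgroup.mem_centralizer_iff]
    simp only [Set.mem_insert_iff, Set.mem_singleton_iff, forall_eq_or_imp, forall_eq]
    refine ⟨fun ⟨e2, e3⟩ => ?_, fun ⟨a1, a2, a3⟩ =>
      ⟨(a1.mul_right a2).eq.symm, (a1.mul_right a3).eq.symm⟩⟩
    have i2 : cj g d₁ * cj g d₂ = d₁ * d₂ := by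
      rw [← cj_map_mul]; exact (cj_eq_self_iff g _).2 e2.symm
    have i3 : cj g d₁ * cj g d₃ = d₁ * d₃ := by
      rw [← cj_map_mul]; exact (cj_eq_self_iff g _).2 e3.symm
    have e1 : cj g d₁ = d₁ := by
      rcases pairs (fac_map hD g f12) f12 i2 with h | h
      · exact h
      · rcases pairs (fac_map hD g f13) f13 i3 with h' | h'
        · exact h'
        · exact absurd (h.symm.trans h') h23
    rw [e1] at i2 i3
    exact ⟨(cj_eq_self_iff g d₁).1 e1, (cj_eq_self_iff g d₂).1 (mul_left_cancel i2),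
      (cj_eq_self_iff g d₃).1 (mul_left_cancel i3)⟩
  set K₀ := L ⊓ K₃ with hK₀
  have hdK : d₁ ∈ K₃ ∧ d₂ ∈ K₃ ∧ d₃ ∈ K₃ := by
    simp only [mem3]
    exact ⟨⟨Commute.refl _, c12, c13⟩, ⟨c12.symm, Commute.refl _, c23⟩,
      ⟨c13.symm, c23.symm, Commute.refl _⟩⟩
  have hEK : E ≤ K₀ := by
    rw [hE, Subgroup.closure_le]
    rintro z (rfl | rfl)
    · exact ⟨mL h₁ hd₂, mul_mem hdK.1 hdK.2.1⟩
    · exact ⟨mL h₁ hd₃, mul_mem hdK.1 hdK.2.2⟩
  have e2 : d₁ * d₂ ∈ E := hE ▸ Subgroup.subset_closure (Or.inl rfl)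
  have e3 : d₁ * d₃ ∈ E := hE ▸ Subgroup.subset_closure (Or.inr rfl)
  let ι₀ : ↥K₀ →* ↥K₃ := Subgroup.inclusion inf_le_right
  set π₀ := π.comp ι₀ with hπ₀
  have hπd : ∀ {x : ↥K₃}, (x : G) = d₁ ∨ (x : G) = d₂ ∨ (x : G) = d₃ → π x = 1 := fun {x} h => by
    refine (hker x).2 ?_
    tauto
  have hπ₀s : Function.Surjective π₀ := fun p => by
    obtain ⟨k, rfl⟩ := hπ p
    rcases P.mem_commutator_or h₁ (k : G) with h | h
    · exact ⟨⟨k, h, k.2⟩, rfl⟩
    · refine ⟨⟨k * d₁, h, mul_mem k.2 hdK.1⟩, ?_⟩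
      show π (k * ⟨d₁, hdK.1⟩) = π k
      rw [map_mul, hπd (x := ⟨d₁, hdK.1⟩) (Or.inl rfl), mul_one]
  have hker₀ : ∀ k : ↥K₀, π₀ k = 1 ↔ (k : G) ∈ E := by
    intro k
    constructor
    · intro h
      have hL : (k : G) ∈ L := k.2.1
      have hkr := (hker (ι₀ k)).1 h
      rw [Subgroup.coe_inclusion] at hkr
      have x32 : d₃ * d₂ = (d₁ * d₃) * (d₁ * d₂) := by
        rw [c13.eq, mul_assoc, ← mul_assoc d₁ d₁, hD.mul_self h₁, one_mul]
      rcases hkr with e | e | e | e | e | e | e | e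
      · rw [e]; exact one_mem _
      · exact absurd (e ▸ hL) (hpar d₁ h₁)
      · exact absurd (e ▸ hL) (hpar d₂ hd₂)
      · rw [e, ← c12.eq]; exact e2
      · exact absurd (e ▸ hL) (hpar d₃ hd₃)
      · rw [e, ← c13.eq]; exact e3
      · rw [e, x32]; exact mul_mem e3 e2
      · rw [e] at hL
        exact absurd ((Subgroup.mul_mem_cancel_left _ (mL hd₃ hd₂)).1 hL) (hpar d₁ h₁)
    · intro h
      have hle : E ≤ π₀.ker.map K₀.subtype := by
        rw [hE, Subgroup.closure_le]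
        rintro z (rfl | rfl)
        · refine ⟨⟨_, hEK e2⟩, ?_, rfl⟩
          show π (⟨d₁, hdK.1⟩ * ⟨d₂, hdK.2.1⟩) = 1
          rw [map_mul, hπd (Or.inl rfl), hπd (Or.inr (Or.inl rfl)), mul_one]
        · refine ⟨⟨_, hEK e3⟩, ?_, rfl⟩
          show π (⟨d₁, hdK.1⟩ * ⟨d₃, hdK.2.2⟩) = 1
          rw [map_mul, hπd (Or.inl rfl), hπd (Or.inr (Or.inr rfl)), mul_one]
      obtain ⟨k', hk', e⟩ := hle h
      rw [← show k' = k from Subtype.ext e]
      exact hk'
  have hEc : ∀ k : ↥K₀, ∀ e ∈ E, (k : G) * e = e * k := fun k e he =>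
    (Subgroup.mem_centralizer_iff.1 (hcE ▸ k.2.2 : (k : G) ∈ Subgroup.centralizer (E : Set G)) e he).symm
  obtain ⟨hs, hnab⟩ := psu_six_two F hF
  have := hs
  have hZ : Subgroup.center (Cfsg.PSU 6 F 2) = ⊥ :=
    (Subgroup.Normal.eq_bot_or_eq_top inferInstance).resolve_right fun h => hnab
      ⟨⟨fun a b => Subgroup.mem_center_iff.1 (h ▸ Subgroup.mem_top b) a⟩⟩
  have hkerE : π₀.ker = E.subgroupOf K₀ := by
    ext k; exact hker₀ k
  have hcent : Subgroup.center ↥K₀ = E.subgroupOf K₀ := by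
    refine le_antisymm (fun k hk => ?_) fun k hk => Subgroup.mem_center_iff.2 fun g =>
      Subtype.ext (hEc g k hk)
    refine (hker₀ k).1 (Subgroup.mem_bot.1 (hZ ▸ Subgroup.mem_center_iff.2 fun p => ?_))
    obtain ⟨g, rfl⟩ := hπ₀s p
    rw [← map_mul, ← map_mul, Subgroup.mem_center_iff.1 hk g]
  -- perfectness
  have hle : (commutator ↥K₃).map K₃.subtype ≤ ⁅K₀, K₀⁆ := by
    rw [Subgroup.map_subtype_commutator, Subgroup.commutator_le]
    intro a ha b hb
    obtain ⟨a', ha', za, hza, rfl⟩ : ∃ a' ∈ K₀, ∃ z, (∀ y ∈ K₃, z * y = y * z) ∧ a = a' * z := by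
      rcases P.mem_commutator_or h₁ a with h | h
      · exact ⟨a, ⟨h, ha⟩, 1, fun y _ => by simp, by simp⟩
      · exact ⟨a * d₁, ⟨h, mul_mem ha hdK.1⟩, d₁, fun y hy => ((mem3 y).1 hy).1.eq.symm,
          by rw [mul_assoc, hD.mul_self h₁, mul_one]⟩
    obtain ⟨b', hb', zb, hzb, rfl⟩ : ∃ b' ∈ K₀, ∃ z, (∀ y ∈ K₃, z * y = y * z) ∧ b = b' * z := by
      rcases P.mem_commutator_or h₁ b with h | h
      · exact ⟨b, ⟨h, hb⟩, 1, fun y _ => by simp, by simp⟩
      · exact ⟨b * d₁, ⟨h, mul_mem hb hdK.1⟩, d₁, fun y hy => ((mem3 y).1 hy).1.eq.symm,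
          by rw [mul_assoc, hD.mul_self h₁, mul_one]⟩
    have za3 : za ∈ K₃ := by simpa using mul_mem (K₃.inv_mem ha'.2) ha
    have zb3 : zb ∈ K₃ := by simpa using mul_mem (K₃.inv_mem hb'.2) hb
    have e : a' * za * (b' * zb) * (a' * za)⁻¹ * (b' * zb)⁻¹ = a' * b' * a'⁻¹ * b'⁻¹ := by
      calc a' * za * (b' * zb) * (a' * za)⁻¹ * (b' * zb)⁻¹
          = a' * (za * (b' * zb)) * za⁻¹ * a'⁻¹ * zb⁻¹ * b'⁻¹ := by group
        _ = a' * b' * (zb * a'⁻¹) * zb⁻¹ * b'⁻¹ := by rw [hza _ (mul_mem hb'.2 zb3)]; group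
        _ = _ := by rw [hzb _ (inv_mem ha'.2)]; group
    rw [commutatorElement_def, e, ← commutatorElement_def]
    exact Subgroup.commutator_mem_commutator ha' hb'
  have hperf : ⁅K₀, K₀⁆ = K₀ := by
    refine le_antisymm (Subgroup.commutator_le_self _) fun k hk => ?_
    obtain ⟨c, hc, e | e⟩ := hcases ⟨k, hk.2⟩
    · rw [show k = (c : G) from e]; exact hle ⟨c, hc, rfl⟩
    · exfalso
      have hcK := hle ⟨c, hc, rfl⟩
      have h1 : d₁ ∈ K₀ := by
        rw [show d₁ = (c : G)⁻¹ * k by rw [show k = (c : G) * d₁ from e, inv_mul_cancel_left]]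
        exact mul_mem (inv_mem ((Subgroup.commutator_le_self K₀) hcK)) hk
      exact hpar d₁ h₁ h1.1
  let eK : ↥K₀ ⧸ π₀.ker ≃* Cfsg.PSU 6 F 2 := QuotientGroup.quotientKerEquivOfSurjective π₀ hπ₀s
  have hEn : (E.subgroupOf K₀).Normal := hkerE ▸ inferInstanceAs π₀.ker.Normal
  let eK' : ↥K₀ ⧸ E.subgroupOf K₀ ≃* Cfsg.PSU 6 F 2 :=
    (QuotientGroup.quotientMulEquivOfEq hkerE.symm).trans eK
  have hqs : Cfsg.IsQuasisimple ↥K₀ := ⟨Subgroup.isPerfect_iff.2 hperf,
    ((QuotientGroup.quotientMulEquivOfEq hcent).trans eK').isSimpleGroup_congr.2 hs⟩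
  -- the action on the three factors
  set v : Fin 3 → G := ![d₁, d₂, d₃] with hv
  have hvD : ∀ i, v i ∈ D := by intro i; fin_cases i <;> assumption
  have hvinj : Function.Injective v := by
    intro i k h
    fin_cases i <;> fin_cases k <;>
      first | rfl | (simp [v, h₂.2.1, h₂.2.1.symm, h₃.2.1, h₃.2.1.symm, h23, h23.symm] at h)
  have hvlist : ∀ x, x ∈ [d₁, d₂, d₃] ↔ ∃ i, v i = x := fun x => by
    simp [Fin.exists_fin_succ, v, eq_comm]
  have hsetmap : ∀ c : ↥CL, ∀ i, ∃ k, cj (c : G) (v i) = v k := by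
    intro c i
    obtain ⟨c, hc⟩ := c
    rw [hCL, Subgroup.mem_inf, Subgroup.mem_centralizer_singleton_iff] at hc
    have hp : (([d₁, d₂, d₃].map (cj c))).prod = [d₁, d₂, d₃].prod := by
      simp only [List.map_cons, List.map_nil, List.prod_cons, List.prod_nil, mul_one, ← cj_map_mul,
        ← mul_assoc]
      exact (cj_eq_self_iff c _).2 hc.2
    have h := (factors_unique hD 3 le_rfl (fun k k1 k2 => P.indeps (2 * k) (by omega) (by omega)) _
      _ (fac_map hD c f123) f123 rfl rfl hp (cj c (v i))).1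
      (List.mem_map_of_mem ((hvlist _).2 ⟨i, rfl⟩))
    obtain ⟨k, hk⟩ := (hvlist _).1 h
    exact ⟨k, hk.symm⟩
  choose σ hσ using hsetmap
  have hσinj : ∀ c, Function.Injective (σ c) := fun c i k h =>
    hvinj (cj_injective (c : G) (by rw [hσ, hσ, h]))
  let Φ : ↥CL →* Equiv.Perm (Fin 3) := MonoidHom.mk'
    (fun c => Equiv.ofBijective (σ c) ((hσinj c).bijective_of_finite))
    fun c c' => Equiv.ext fun i => hvinj (by
      show v (σ (c * c') i) = v (σ c (σ c' i))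
      rw [← hσ, ← hσ, ← hσ, Subgroup.coe_mul, cj_mul])
  have hΦs : Function.Surjective Φ := by
    intro p
    have hf : Fac D [v (p 0), v (p 1), v (p 2)] := by
      refine ⟨?_, by simp [hvD], fun a ha b hb => ?_⟩
      · simp [hvinj.eq_iff]
      · have mm : ∀ {a}, a ∈ [v (p 0), v (p 1), v (p 2)] → a ∈ [d₁, d₂, d₃] := fun {a} ha => by
          simp only [List.mem_cons, List.not_mem_nil, or_false] at ha
          rcases ha with rfl | rfl | rfl <;> exact (hvlist _).2 ⟨_, rfl⟩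
        exact f123.comm a (mm ha) b (mm hb)
    obtain ⟨g₀, hg₀⟩ := P.conj_lists f123 hf rfl (by simp)
    simp only [List.map_cons, List.map_nil, List.cons.injEq, and_true] at hg₀
    have hg₀' : ∀ i, cj g₀ (v i) = v (p i) := by
      intro i; fin_cases i
      exacts [hg₀.1, hg₀.2.1, hg₀.2.2]
    obtain ⟨g, hgL, hg⟩ : ∃ g ∈ L, ∀ i, cj g (v i) = v (p i) := by
      rcases P.mem_commutator_or h₁ g₀ with h | h
      · exact ⟨g₀, h, hg₀'⟩
      · refine ⟨g₀ * d₁, h, fun i => ?_⟩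
        rw [cj_mul, (cj_eq_self_iff d₁ (v i)).2, hg₀']
        exact f123.comm _ (by simp) _ ((hvlist _).2 ⟨i, rfl⟩)
    have hgc : g ∈ CL := by
      rw [hCL, Subgroup.mem_inf, Subgroup.mem_centralizer_singleton_iff]
      refine ⟨hgL, ((cj_eq_self_iff g _).1 ?_).eq⟩
      rw [cj_map_mul, cj_map_mul, show d₁ = v 0 from rfl, show d₂ = v 1 from rfl,
        show d₃ = v 2 from rfl, hg, hg, hg]
      have : [v (p 0), v (p 1), v (p 2)].Perm [v 0, v 1, v 2] :=
        (List.perm_ext_iff_of_nodup hf.nodup f123.nodup).2 fun x => by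
          rw [hvlist]
          constructor
          · intro hx
            simp only [List.mem_cons, List.not_mem_nil, or_false] at hx
            rcases hx with rfl | rfl | rfl <;> exact ⟨_, rfl⟩
          · rintro ⟨i, rfl⟩
            obtain ⟨j, rfl⟩ := p.surjective i
            fin_cases j <;> simp
      simpa [mul_assoc] using this.prod_eq' (List.pairwise_of_forall_mem_list hf.comm)
    exact ⟨⟨g, hgc⟩, Equiv.ext fun i => hvinj ((hσ ⟨g, hgc⟩ i).symm.trans (hg i))⟩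
  have hK₀CL : K₀ ≤ CL := by
    intro x hx
    rw [hCL, Subgroup.mem_inf, Subgroup.mem_centralizer_singleton_iff]
    obtain ⟨a1, a2, a3⟩ := (mem3 x).1 hx.2
    exact ⟨hx.1, ((a1.mul_right a2).mul_right a3).eq⟩
  have hΦker : Φ.ker = K₀.subgroupOf CL := by
    ext c
    rw [MonoidHom.mem_ker, Subgroup.mem_subgroupOf, hK₀, Subgroup.mem_inf, mem3]
    constructor
    · intro h
      have hfix : ∀ i, Commute (c : G) (v i) := fun i => (cj_eq_self_iff _ _).1 (by
        rw [hσ]; exact congrArg v (Equiv.ext_iff.1 h i))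
      exact ⟨(show (c : G) ∈ L from (hCL.le c.2).1), hfix 0, hfix 1, hfix 2⟩
    · rintro ⟨-, a1, a2, a3⟩
      refine Equiv.ext fun i => hvinj ((hσ c i).symm.trans ((cj_eq_self_iff _ _).2 ?_))
      fin_cases i <;> assumption
  have hK₀n : (K₀.subgroupOf CL).Normal := hΦker ▸ inferInstanceAs Φ.ker.Normal
  -- the action on the quotient
  have hconj : ∀ (c : ↥CL) (k : ↥K₀), (c : G) * k * (c : G)⁻¹ ∈ K₀ := fun c k =>
    hK₀n.conj_mem ⟨k, hK₀CL k.2⟩ k.2 c
  let γ : ↥CL → ↥K₀ →* ↥K₀ := fun c => MonoidHom.mk' (fun k => ⟨(c : G) * k * (c : G)⁻¹, hconj c k⟩)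
    fun k k' => Subtype.ext (by simp [mul_assoc])
  have hγ : ∀ c, π₀.ker ≤ (π₀.comp (γ c)).ker := by
    intro c k hk
    rw [MonoidHom.mem_ker, MonoidHom.comp_apply, hker₀]
    show (c : G) * k * (c : G)⁻¹ ∈ E
    have hkc : k ∈ Subgroup.center ↥K₀ := by rw [hcent, ← hkerE]; exact hk
    have : (γ c k) ∈ Subgroup.center ↥K₀ := Subgroup.mem_center_iff.2 fun g => by
      have hg : (⟨(c : G)⁻¹ * g * c, by simpa using hconj c⁻¹ g⟩ : ↥K₀) * k =
          k * ⟨(c : G)⁻¹ * g * c, by simpa using hconj c⁻¹ g⟩ := Subgroup.mem_center_iff.1 hkc _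
      apply Subtype.ext
      have h := congrArg (fun z : ↥K₀ => (c : G) * z * (c : G)⁻¹) hg
      simpa [γ, mul_assoc] using h
    rw [hcent] at this
    exact this
  let f : ↥CL → Cfsg.PSU 6 F 2 →* Cfsg.PSU 6 F 2 := fun c =>
    π₀.liftOfSurjective hπ₀s ⟨π₀.comp (γ c), hγ c⟩
  have hf : ∀ c k, f c (π₀ k) = π₀ (γ c k) := fun c k =>
    MonoidHom.liftOfRightInverse_comp_apply _ _ _ ⟨π₀.comp (γ c), hγ c⟩ k
  have hfm : ∀ c c' p, f (c * c') p = f c (f c' p) := by
    intro c c' p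
    obtain ⟨k, rfl⟩ := hπ₀s p
    rw [hf, hf, hf]
    exact congrArg π₀ (Subtype.ext (by simp [γ, mul_assoc]))
  have hf1 : ∀ p, f 1 p = p := by
    intro p
    obtain ⟨k, rfl⟩ := hπ₀s p
    rw [hf]
    exact congrArg π₀ (Subtype.ext (by simp [γ]))
  let Ψ : ↥CL →* MulAut (Cfsg.PSU 6 F 2) := MonoidHom.mk'
    (fun c => MonoidHom.toMulEquiv (f c) (f c⁻¹)
      (MonoidHom.ext fun p => by simp [← hfm, hf1]) (MonoidHom.ext fun p => by simp [← hfm, hf1]))
    fun c c' => MulEquiv.ext (hfm c c')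
  have hΨker : Ψ.ker = E.subgroupOf CL := by
    ext c
    rw [MonoidHom.mem_ker, Subgroup.mem_subgroupOf]
    constructor
    swap
    · intro hc
      refine MulEquiv.ext fun p => ?_
      obtain ⟨k, rfl⟩ := hπ₀s p
      show f c (π₀ k) = π₀ k
      rw [hf]
      refine congrArg π₀ (Subtype.ext ?_)
      show (c : G) * k * (c : G)⁻¹ = k
      rw [← hEc k c hc, mul_inv_cancel_right]
    intro h
    have hfix : ∀ y : G, y ∈ D → y ∉ [d₁, d₂, d₃] → ∀ hy3 : y ∈ K₃, Commute (c : G) y := by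
      intro y hy hyn hy3
      have hyd : y * d₁ ∈ K₀ := ⟨mL hy h₁, mul_mem hy3 hdK.1⟩
      have hn3 : ∀ x ∈ K₃, (c : G) * x * (c : G)⁻¹ ∈ K₃ := by
        intro x hx
        rcases P.mem_commutator_or h₁ x with hx' | hx'
        · exact (hconj c ⟨x, hx', hx⟩).2
        · have hd : (c : G) * d₁ * (c : G)⁻¹ ∈ K₃ := by
            rw [show (c : G) * d₁ * (c : G)⁻¹ = cj (c : G) (v 0) from rfl, hσ]
            generalize σ c 0 = i
            fin_cases i
            exacts [hdK.1, hdK.2.1, hdK.2.2]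
          have := mul_mem (hconj c ⟨x * d₁, hx', mul_mem hx hdK.1⟩).2 (K₃.inv_mem hd)
          simpa [mul_assoc] using this
      have hcd : (c : G) * d₁ * (c : G)⁻¹ ∈ K₃ := hn3 _ hdK.1
      have hcy : (c : G) * y * (c : G)⁻¹ ∈ K₃ := hn3 _ hy3
      have hpd : π ⟨_, hcd⟩ = 1 := hπd (by
        show cj (c : G) (v 0) = d₁ ∨ cj (c : G) (v 0) = d₂ ∨ cj (c : G) (v 0) = d₃
        rw [hσ]
        generalize σ c 0 = i
        fin_cases i <;> simp [v])
      have e := MulEquiv.ext_iff.1 h (π₀ ⟨y * d₁, hyd⟩)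
      change f c _ = π₀ _ at e
      rw [hf] at e
      have e1 : π (ι₀ (γ c ⟨y * d₁, hyd⟩)) = π ⟨_, hcy⟩ := by
        rw [show ι₀ (γ c ⟨y * d₁, hyd⟩) = ⟨_, hcy⟩ * ⟨_, hcd⟩ from
          Subtype.ext (by simp [ι₀, γ, mul_assoc]), map_mul, hpd, mul_one]
      have e2 : π (ι₀ ⟨y * d₁, hyd⟩) = π ⟨y, hy3⟩ := by
        rw [show ι₀ ⟨y * d₁, hyd⟩ = ⟨y, hy3⟩ * ⟨d₁, hdK.1⟩ from Subtype.ext rfl, map_mul,
          hπd (x := ⟨d₁, hdK.1⟩) (Or.inl rfl), mul_one]
      refine (cj_eq_self_iff (c : G) y).1 (congrArg Subtype.val (hinjM ⟨_, hcy⟩ ⟨y, hy3⟩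
        (hD.inv' _ y hy) (fun hm => hyn ?_) hy hyn (e1.symm.trans (e.trans e2))))
      obtain ⟨i, hi⟩ := (hvlist _).1 hm
      obtain ⟨k, hk⟩ := (Finite.injective_iff_surjective.1 (hσinj c)) i
      refine (hvlist _).2 ⟨k, cj_injective (c : G) ?_⟩
      rw [hσ, hk, hi]
      rfl
    have hsix : ∀ {b b' : G}, b ∈ link D d₁ → b' ∈ link D d₁ → b ≠ b' → Commute b b' →
        (∀ y, y ∈ [d₁, d₂, d₃] → y = d₁ ∨ y = b ∨ y = b') →
        (∀ y, Commute y d₁ → Commute y b → Commute y b' → y ∈ K₃) → Commute (c : G) (b * d₁) := by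
      intro b b' hb hb' hne hcom hset hm
      obtain ⟨s, hsp, hs⟩ := P.six_triple h₁ hb hb' hne hcom
      rw [← hsp]
      refine Commute.list_prod_right _ _ fun y hy => ?_
      obtain ⟨y1, y2, y3, y4, y5, y6, y7⟩ := hs y hy
      exact hfix y y1 (fun hy' => by rcases hset y hy' with e | e | e <;> contradiction)
        (hm y y5 y6 y7)
    have k2 := hsix h₂ h₃ h23 c23 (fun y hy => by simpa using hy)
      fun y a1 a2 a3 => (mem3 y).2 ⟨a1, a2, a3⟩
    have k3 := hsix h₃ h₂ h23.symm c23.symm (fun y hy => by simp at hy; tauto)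
      fun y a1 a2 a3 => (mem3 y).2 ⟨a1, a3, a2⟩
    have hcK : (c : G) ∈ K₀ := by
      refine ⟨(show (c : G) ∈ L from (hCL.le c.2).1), ?_⟩
      show (c : G) ∈ K₃
      rw [← hcE, hE, Subgroup.centralizer_closure, Subgroup.mem_centralizer_iff]
      rintro z (rfl | rfl)
      · rw [c12.eq]; exact k2.eq.symm
      · rw [c13.eq]; exact k3.eq.symm
    refine (hker₀ ⟨c, hcK⟩).1 (Subgroup.mem_bot.1 (hZ ▸ Subgroup.mem_center_iff.2 fun p => ?_))
    obtain ⟨k, rfl⟩ := hπ₀s p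
    have e := MulEquiv.ext_iff.1 h (π₀ k)
    change f c _ = π₀ _ at e
    rw [hf, show γ c k = (⟨c, hcK⟩ : ↥K₀) * k * (⟨c, hcK⟩ : ↥K₀)⁻¹ from rfl, map_mul, map_mul,
      map_inv, mul_inv_eq_iff_eq_mul] at e
    exact e.symm
  have hFeq : Cfsg.generalizedFittingSubgroup ↥CL = K₀.subgroupOf CL := by
    refine genFitting_eq_of_quasisimple
      (Components.quasisimple_of_mulEquiv (Subgroup.subgroupOfEquivOfLe hK₀CL).symm hqs) fun c hc => ?_
    have h1 : c ∈ Ψ.ker := by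
      refine MulEquiv.ext fun p => ?_
      obtain ⟨k, rfl⟩ := hπ₀s p
      show f c (π₀ k) = π₀ k
      rw [hf]
      refine congrArg π₀ (Subtype.ext ?_)
      show (c : G) * k * (c : G)⁻¹ = k
      have := congrArg Subtype.val (Subgroup.mem_centralizer_iff.1 hc ⟨k, hK₀CL k.2⟩ k.2)
      rw [mul_inv_eq_iff_eq_mul]
      exact this.symm
    rw [hΨker] at h1
    exact hEK h1
  obtain rfl : K = K₀ := by
    rw [hK, hFeq]
    exact Subgroup.map_subgroupOf_eq_of_le hK₀CL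
  refine ⟨hqs, ?_, by rw [hcE], ⟨hEn, F, i1, i2, hF, ⟨eK'⟩⟩, hK₀n, ?_, hEK.trans hK₀CL, ?_⟩
  · rw [hcent]; exact Subgroup.map_subgroupOf_eq_of_le hEK
  · exact ⟨(QuotientGroup.quotientMulEquivOfEq hΦker.symm).trans
      (QuotientGroup.quotientKerEquivOfSurjective Φ hΦs)⟩
  · have hEn' : (E.subgroupOf CL).Normal := hΨker ▸ inferInstanceAs Ψ.ker.Normal
    refine ⟨hEn', F, i1, i2, hF, ?_⟩
    have : Fact (Nat.Prime 2) := ⟨Nat.prime_two⟩
    have hA := S0815.result (F := F) 2 1 le_rfl (q := 2) rfl (by rw [hF]; rfl) 6 (by norm_num)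
      (by rintro ⟨h, -⟩; omega)
    have hindK : (K₀.subgroupOf CL).index = 6 := by
      rw [← hΦker, Subgroup.index_ker, MonoidHom.range_eq_top.2 hΦs, Subgroup.card_top, Nat.card_perm,
        Nat.card_fin]
      rfl
    have hindE : (E.subgroupOf K₀).index = Nat.card (Cfsg.PSU 6 F 2) := by
      rw [← hkerE, Subgroup.index_ker, MonoidHom.range_eq_top.2 hπ₀s, Subgroup.card_top]
    have hmul := Subgroup.relIndex_mul_relIndex E K₀ CL hEK hK₀CL
    simp only [Subgroup.relIndex] at hmul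
    have hcard : Nat.card (↥CL ⧸ Ψ.ker) = Nat.card (MulAut (Cfsg.PSU 6 F 2)) := by
      rw [← Subgroup.index_eq_card, hΨker, hA, ← hmul, hindK, hindE]
      norm_num [mul_comm]
    have : Finite (MulAut (Cfsg.PSU 6 F 2)) := Finite.of_injective (fun e => (e : _ → _))
      fun e e' h => MulEquiv.ext (congrFun h)
    exact ⟨(QuotientGroup.quotientMulEquivOfEq hΨker.symm).trans
      (MulEquiv.ofBijective (QuotientGroup.kerLift Ψ) ((Nat.bijective_iff_injective_and_card _).2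
        ⟨QuotientGroup.kerLift_injective Ψ, hcard⟩))⟩

end M24Prim

end Cfsg.Agent.TTLink
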