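import Cfsg.Agent.TTLink.M24Quad
import Cfsg.Agent.TTLink.M24PairQuot
import Cfsg.Agent.TTLink.M24Triple
import Cfsg.Agent.TTLink.M24UniqLocal

/-!
Group-theoretic recognition of products of two commuting transpositions, and of incidences between them,
inside the commutator subgroup of a group of type M(24).
-/

set_option autoImplicit false

namespace Cfsg.Agent.TTLink

open Cfsg.Agent.ThreeTransp45 Cfsg.Agent.SporB PrimeFix

namespace OutFi

variable {L : Type*} [Group L]

/-- Half the centraliser of a product of two commuting transpositions. -/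
def bigCent : ℕ := 129123503308800

/-- An involution with a large centraliser. -/
def IsPair (x : L) : Prop :=
  orderOf x = 2 ∧ bigCent ≤ Nat.card ↥(Subgroup.centralizer ({x} : Set L))

/-- Three commuting large involutions centralised by an element of order eleven. -/
def Tri (x y : L) : Prop :=
  IsPair x ∧ IsPair y ∧ IsPair (x * y) ∧ Commute x y ∧
    ∃ g : L, orderOf g = 11 ∧ Commute g x ∧ Commute g y

theorem IsPair.map {M : Type*} [Group M] (φ : L ≃* M) {x : L} (h : IsPair x) : IsPair (φ x) := by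
  refine ⟨(MulEquiv.orderOf_eq φ x).trans h.1, h.2.trans (le_of_eq ?_)⟩
  have e : (Subgroup.centralizer ({x} : Set L)).map φ.toMonoidHom = Subgroup.centralizer ({φ x} : Set M) := by
    ext y
    obtain ⟨z, rfl⟩ := φ.surjective y
    simp only [Subgroup.mem_map, MulEquiv.coe_toMonoidHom, EmbeddingLike.apply_eq_iff_eq, exists_eq_right,
      Subgroup.mem_centralizer_singleton_iff, ← map_mul]
  rw [← e]
  exact Nat.card_congr ((Subgroup.centralizer ({x} : Set L)).equivMapOfInjective _ φ.injective).toEquiv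

theorem Tri.map {M : Type*} [Group M] (φ : L ≃* M) {x y : L} (h : Tri x y) : Tri (φ x) (φ y) := by
  obtain ⟨h1, h2, h3, h4, g, hg, hgx, hgy⟩ := h
  exact ⟨h1.map φ, h2.map φ, map_mul φ x y ▸ h3.map φ, h4.map φ.toMonoidHom, φ g,
    (MulEquiv.orderOf_eq φ g).trans hg, hgx.map φ.toMonoidHom, hgy.map φ.toMonoidHom⟩

end OutFi

open OutFi

variable {G : Type*} [Group G] [Finite G] {D : Set G}

namespace M24Prim

variable (P : M24Prim D)
include P

theorem sign : ∃ χ : G →* ℤˣ, (∀ z ∈ D, χ z = -1) ∧ ∀ g, g ∈ commutator G ↔ χ g = 1 := by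
  obtain ⟨χ, hχ⟩ := P.parity
  obtain ⟨d, hd, -⟩ := P.cls.2.1
  refine ⟨χ, hχ, fun g => ⟨fun h => Abelianization.commutator_subset_ker χ h, fun h => ?_⟩⟩
  refine (P.mem_commutator_or hd g).resolve_right fun h' => ?_
  have := Abelianization.commutator_subset_ker χ h'
  rw [MonoidHom.mem_ker, map_mul, h, hχ d hd] at this
  exact absurd this (by decide)

theorem class_not_mem_commutator {d : G} (hd : d ∈ D) : d ∉ commutator G := fun h => by
  obtain ⟨χ, hχ, hL⟩ := P.sign
  exact absurd ((hχ d hd).symm.trans ((hL d).1 h)) (by decide)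

theorem pair_mem_commutator {a b : G} (ha : a ∈ D) (hb : b ∈ D) : a * b ∈ commutator G := by
  obtain ⟨χ, hχ, hL⟩ := P.sign
  rw [hL, map_mul, hχ a ha, hχ b hb]; decide

theorem odd_mem_commutator {g : G} {n : ℕ} (hn : Odd n) (hg : g ^ n = 1) : g ∈ commutator G := by
  obtain ⟨χ, hχ, hL⟩ := P.sign
  rw [hL]
  have h := map_pow χ g n
  rw [hg, map_one] at h
  rcases Int.units_eq_one_or (χ g) with e | e
  · exact e
  · rw [e, hn.neg_one_pow] at h
    exact absurd h (by decide)

/-- The commutator subgroup halves subgroups. -/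
theorem card_le_two_mul (H : Subgroup G) :
    Nat.card H ≤ 2 * Nat.card ↥(H ⊓ commutator G) ∧
      ∀ d ∈ H, d ∈ D → Nat.card H = 2 * Nat.card ↥(H ⊓ commutator G) := by
  have hidx : (commutator G).index = 2 := by
    obtain ⟨d, hd, -⟩ := P.cls.2.1
    obtain ⟨χ, hχ, hL⟩ := P.sign
    rw [Subgroup.index_eq_two_iff]
    refine ⟨d, fun g => ?_⟩
    rw [hL, hL, map_mul, hχ d hd]
    rcases Int.units_eq_one_or (χ g) with e | e <;> rw [e]
    · exact Or.inr ⟨rfl, by decide⟩
    · exact Or.inl ⟨by decide, by decide⟩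
  have hmul : Nat.card ↥(H ⊓ commutator G) * (commutator G).relIndex H = Nat.card H := by
    have := Subgroup.relIndex_mul_relIndex (⊥ : Subgroup G) (H ⊓ commutator G) H bot_le inf_le_left
    rwa [Subgroup.relIndex_bot_left, Subgroup.relIndex_bot_left, Subgroup.inf_relIndex_left] at this
  have hdvd : (commutator G).relIndex H ∣ 2 := hidx ▸ Subgroup.relIndex_dvd_index_of_normal _ H
  rcases (Nat.dvd_prime Nat.prime_two).1 hdvd with e | e
  · rw [e, mul_one] at hmul
    exact ⟨by omega, fun d hd hdD => absurd ((Subgroup.relIndex_eq_one.1 e) hd)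
      (P.class_not_mem_commutator hdD)⟩
  · rw [e, mul_comm] at hmul
    exact ⟨hmul.ge, fun d _ _ => hmul.symm⟩

theorem card_centralizer_commutator (x : ↥(commutator G)) :
    Nat.card ↥(Subgroup.centralizer ({x} : Set ↥(commutator G))) =
      Nat.card ↥(Subgroup.centralizer ({(x : G)} : Set G) ⊓ commutator G) := by
  have e : (Subgroup.centralizer ({x} : Set ↥(commutator G))).map (commutator G).subtype =
      Subgroup.centralizer ({(x : G)} : Set G) ⊓ commutator G := by
    ext g
    simp only [Subgroup.mem_map, Subgroup.mem_inf, Subgroup.mem_centralizer_singleton_iff]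
    constructor
    · rintro ⟨z, hz, rfl⟩
      exact ⟨congrArg Subtype.val hz, z.2⟩
    · rintro ⟨h1, h2⟩
      exact ⟨⟨g, h2⟩, Subtype.ext h1, rfl⟩
  rw [← e]
  exact Nat.card_congr ((Subgroup.centralizer ({x} : Set _)).equivMapOfInjective _
    (commutator G).subtype_injective).toEquiv

/-- The joint centraliser of a commuting pair. -/
theorem pair_card {a b : G} (ha : a ∈ D) (hb : b ∈ link D a) :
    Nat.card ↥(Subgroup.centralizer ({a} : Set G) ⊓ Subgroup.centralizer ({b} : Set G)) =
      2 * (2 * (3510 * 18393661440)) := by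
  have h := orbit_eq (Subgroup.centralizer ({a} : Set G)) b (S := link D a)
    (fun g hg => by
      have e : cj g '' link D a = link D a := by
        rw [link_image P.data, (cj_eq_self_iff g a).2 (Subgroup.mem_centralizer_singleton_iff.1 hg)]
      exact e ▸ Set.mem_image_of_mem _ hb)
    fun z hz => by
      obtain ⟨g, hg⟩ := P.conj_lists (l := [a, b]) (l' := [a, z])
        ⟨by simp [hb.2.1.symm], by simp [ha, hb.1], by simp [hb.2.2, hb.2.2.symm]⟩
        ⟨by simp [hz.2.1.symm], by simp [ha, hz.1], by simp [hz.2.2, hz.2.2.symm]⟩ rfl (by simp)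
      simp only [List.map_cons, List.map_nil, List.cons.injEq, and_true] at hg
      exact ⟨g, Subgroup.mem_centralizer_singleton_iff.2 ((cj_eq_self_iff g a).1 hg.1).eq, hg.2⟩
  rw [P.srg.deg a ha, P.centralizer_card ha] at h
  omega

/-- The joint centraliser of a commuting triple. -/
theorem triple_card {a b c : G} (ha : a ∈ D) (hb : b ∈ link D a) (hc : c ∈ link D a ∩ link D b) :
    Nat.card ↥(Subgroup.centralizer ({a} : Set G) ⊓ Subgroup.centralizer ({b} : Set G) ⊓
      Subgroup.centralizer ({c} : Set G)) = 2 * (2 * 18393661440) := by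
  have fix : ∀ {g x : G}, g ∈ Subgroup.centralizer ({x} : Set G) → cj g x = x := fun hg =>
    (cj_eq_self_iff _ _).2 (Subgroup.mem_centralizer_singleton_iff.1 hg)
  have h := orbit_eq (Subgroup.centralizer ({a} : Set G) ⊓ Subgroup.centralizer ({b} : Set G)) c
    (S := link D a ∩ link D b)
    (fun g hg => by
      have e : cj g '' link D a = link D a := by rw [link_image P.data, fix hg.1]
      have e' : cj g '' link D b = link D b := by rw [link_image P.data, fix hg.2]
      exact ⟨e ▸ Set.mem_image_of_mem _ hc.1, e' ▸ Set.mem_image_of_mem _ hc.2⟩)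
    fun z hz => by
      obtain ⟨g, hg⟩ := P.conj_lists (l := [a, b, c]) (l' := [a, b, z])
        ⟨by simp [hb.2.1.symm, hc.1.2.1.symm, hc.2.2.1.symm], by simp [ha, hb.1, hc.1.1],
          by simp [hb.2.2, hb.2.2.symm, hc.1.2.2, hc.1.2.2.symm, hc.2.2.2, hc.2.2.2.symm]⟩
        ⟨by simp [hb.2.1.symm, hz.1.2.1.symm, hz.2.2.1.symm], by simp [ha, hb.1, hz.1.1],
          by simp [hb.2.2, hb.2.2.symm, hz.1.2.2, hz.1.2.2.symm, hz.2.2.2, hz.2.2.2.symm]⟩ rfl (by simp)
      simp only [List.map_cons, List.map_nil, List.cons.injEq, and_true] at hg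
      exact ⟨g, ⟨Subgroup.mem_centralizer_singleton_iff.2 ((cj_eq_self_iff g a).1 hg.1).eq,
        Subgroup.mem_centralizer_singleton_iff.2 ((cj_eq_self_iff g b).1 hg.2.1).eq⟩, hg.2.2⟩
  rw [P.srg.adj a ha b hb, P.pair_card ha hb] at h
  omega

/-- The joint centraliser of a non-commuting pair. -/
theorem far_card {a c : G} (ha : a ∈ D) (hc : c ∈ D) (hac : ¬ Commute a c) :
    Nat.card ↥(Subgroup.centralizer ({a, c} : Set G)) = 29713078886400 := by
  have hl : {y | y ∈ D ∧ ¬ Commute a y}.ncard = 275264 := by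
    have e : {y | y ∈ D ∧ ¬ Commute a y} = D \ insert a (link D a) := Set.ext fun y =>
      ⟨fun ⟨hy, hn⟩ => ⟨hy, by
        rintro (rfl | h)
        exacts [hn (Commute.refl _), hn h.2.2]⟩,
       fun ⟨hy, hn⟩ => ⟨hy, fun h => hn (Or.inr ⟨hy, fun e => hn (Or.inl e), h⟩)⟩⟩
    rw [e, Set.ncard_sdiff (Set.insert_subset ha fun y hy => hy.1),
      Set.ncard_insert_of_notMem (fun h => h.2.1 rfl), P.srg.card, P.srg.deg a ha]
  have hC := card_far P.data (fun ha hb hc => P.far_pairs ha hb hc) ha hc hac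
  rw [hl, P.centralizer_card ha] at hC
  omega

/-- A product of four commuting transpositions has a small centraliser. -/
theorem quad_small {t a b c e : G} (hl : IsQuad D t [a, b, c, e]) :
    Nat.card ↥(Subgroup.centralizer ({t} : Set G) ⊓ commutator G) < bigCent := by
  classical
  have hD := P.data
  have hF := hl.1
  set C := Subgroup.centralizer ({t} : Set G) with hC
  have fix : ∀ {g x : G}, g ∈ Subgroup.centralizer ({x} : Set G) → cj g x = x := fun hg =>
    (cj_eq_self_iff _ _).2 (Subgroup.mem_centralizer_singleton_iff.1 hg)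
  have inC : ∀ {g x : G}, cj g x = x → g ∈ Subgroup.centralizer ({x} : Set G) := fun hg =>
    Subgroup.mem_centralizer_singleton_iff.2 ((cj_eq_self_iff _ _).1 hg).eq
  have stay : ∀ {g u : G}, g ∈ C → cj g a = a → u ∈ [a, b, c, e] → cj g u ∈ [a, b, c, e] := by
    intro g u hg hga hu
    have hgt : cj g t = t := fix hg
    refine (P.quad_unique hl (m := [a, b, c, e].map (cj g)) ⟨fac_map hD g hl.1, by simp, ?_⟩
      (x := a) (by simp) (List.mem_map.2 ⟨a, by simp, hga⟩) _).2 (List.mem_map_of_mem hu)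
    rw [← cj_list_prod, hl.2.2, hgt]
  have hn := hF.nodup
  simp only [List.nodup_cons, List.mem_cons, List.not_mem_nil, or_false, not_or, not_false_eq_true,
    List.nodup_nil, and_true] at hn
  obtain ⟨⟨hab, hac, hae⟩, ⟨hbc, hbe⟩, hce⟩ := hn
  have bound : ∀ (H : Subgroup G) (y : G) (S : Set G) (n m : ℕ), S.ncard ≤ n → (∀ g ∈ H, cj g y ∈ S) →
      Nat.card ↥(H ⊓ Subgroup.centralizer ({y} : Set G)) ≤ m → Nat.card ↥H ≤ n * m := by
    intro H y S n m hS hmem hm
    rw [← orbit_card H y]
    exact Nat.mul_le_mul ((Set.ncard_le_ncard (Set.image_subset_iff.2 hmem) (Set.toFinite _)).trans hS) hm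
  set H1 := C ⊓ Subgroup.centralizer ({a} : Set G)
  set H2 := H1 ⊓ Subgroup.centralizer ({b} : Set G)
  set H3 := H2 ⊓ Subgroup.centralizer ({c} : Set G)
  have hlast : Nat.card ↥H3 ≤ 106168320 := by
    have hK := P.quad_stab hF
    rw [P.group_card] at hK
    refine (Subgroup.card_le_of_le ?_).trans (le_of_eq (b := 106168320) (by omega : Nat.card
      ↥((((⊤ : Subgroup G) ⊓ Subgroup.centralizer ({a} : Set G)) ⊓ Subgroup.centralizer ({b} : Set G)) ⊓
        Subgroup.centralizer ({c} : Set G) ⊓ Subgroup.centralizer ({e} : Set G)) = 106168320))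
    intro g hg
    refine ⟨⟨⟨⟨trivial, hg.1.1.2⟩, hg.1.2⟩, hg.2⟩, inC ?_⟩
    have h := stay hg.1.1.1 (fix hg.1.1.2) (u := e) (by simp)
    simp only [List.mem_cons, List.not_mem_nil, or_false] at h
    rcases h with h | h | h | h
    · exact absurd (cj_injective g (h.trans (fix hg.1.1.2).symm)) (Ne.symm hae)
    · exact absurd (cj_injective g (h.trans (fix hg.1.2).symm)) (Ne.symm hbe)
    · exact absurd (cj_injective g (h.trans (fix hg.2).symm)) (Ne.symm hce)
    · exact h
  have b3 : Nat.card ↥H2 ≤ 2 * 106168320 := bound H2 c {c, e} 2 _ (le_of_eq (Set.ncard_pair hce))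
    (fun g hg => by
      have h := stay hg.1.1 (fix hg.1.2) (u := c) (by simp)
      simp only [List.mem_cons, List.not_mem_nil, or_false] at h
      rcases h with h | h | h | h
      · exact absurd (cj_injective g (h.trans (fix hg.1.2).symm)) (Ne.symm hac)
      · exact absurd (cj_injective g (h.trans (fix hg.2).symm)) (Ne.symm hbc)
      all_goals simp [h]) hlast
  have b2 : Nat.card ↥H1 ≤ 3 * (2 * 106168320) := bound H1 b {b, c, e} 3 _
    (le_of_eq (Set.ncard_eq_three.2 ⟨b, c, e, hbc, hbe, hce, rfl⟩))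
    (fun g hg => by
      have h := stay hg.1 (fix hg.2) (u := b) (by simp)
      simp only [List.mem_cons, List.not_mem_nil, or_false] at h
      rcases h with h | h | h | h
      · exact absurd (cj_injective g (h.trans (fix hg.2).symm)) (Ne.symm hab)
      all_goals simp [h]) b3
  have b1 : Nat.card ↥C ≤ 306936 * (3 * (2 * 106168320)) := bound C a D 306936 _ (le_of_eq P.srg.card)
    (fun g _ => hD.inv' g a (hF.mem a (by simp))) b2
  have haC : a ∈ C := Subgroup.mem_centralizer_singleton_iff.2 (by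
    rw [← hl.2.2]; exact (fac_commute_prod hF (by simp : a ∈ [a, b, c, e])).eq)
  have := (P.card_le_two_mul C).2 a haC (hF.mem a (by simp))
  rw [bigCent]
  omega

theorem pair_order {a b : G} (ha : a ∈ D) (hb : b ∈ link D a) : orderOf (a * b) = 2 := by
  haveI : Fact (Nat.Prime 2) := ⟨Nat.prime_two⟩
  refine orderOf_eq_prime ?_ ?_
  · rw [pow_two, hb.2.2.symm.mul_mul_mul_comm, P.data.mul_self ha, P.data.mul_self hb.1, one_mul]
  · intro h
    exact P.indeps 2 (by norm_num) (by norm_num) [a, b] (by simp [hb.2.1.symm]) rfl (by simp [ha, hb.1])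
      (by simp [hb.2.2, hb.2.2.symm]) (by simpa using h)

/-- The large involutions are the products of two commuting transpositions. -/
theorem isPair_iff (x : ↥(commutator G)) :
    IsPair x ↔ ∃ a ∈ D, ∃ b ∈ link D a, (x : G) = a * b := by
  constructor
  · rintro ⟨ho, hbig⟩
    have hxx : (x : G) * x = 1 := by
      have := congrArg Subtype.val (pow_orderOf_eq_one x)
      rwa [ho, pow_two] at this
    obtain ⟨m, hm, hlen, hprod⟩ := P.factor_four hxx
    obtain ⟨χ, hχ, hL⟩ := P.sign
    have hχx : χ x = (-1) ^ m.length := by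
      rw [← hprod, map_list_prod, List.prod_eq_pow_card _ (-1 : ℤˣ), List.length_map]
      intro u hu
      obtain ⟨v, hv, rfl⟩ := List.mem_map.1 hu
      exact hχ v (hm.mem v hv)
    rw [(hL _).1 x.2] at hχx
    rcases m with _ | ⟨a, _ | ⟨b, _ | ⟨c, _ | ⟨e, _ | ⟨f, r⟩⟩⟩⟩⟩
    · exfalso
      rw [List.prod_nil] at hprod
      rw [show x = 1 from Subtype.ext hprod.symm, orderOf_one] at ho
      omega
    · simp at hχx
    · refine ⟨a, hm.mem a (by simp), b, ⟨hm.mem b (by simp), fun e => ?_, hm.comm a (by simp) b (by simp)⟩, ?_⟩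
      · subst e; simpa using hm.nodup
      · rw [← hprod]; simp
    · simp [pow_succ] at hχx
    · exfalso
      have := P.quad_small (t := (x : G)) ⟨hm, rfl, hprod⟩
      rw [P.card_centralizer_commutator] at hbig
      omega
    · simp only [List.length_cons] at hlen; omega
  · rintro ⟨a, ha, b, hb, hx⟩
    refine ⟨?_, ?_⟩
    · rw [← Subgroup.orderOf_coe, hx]; exact P.pair_order ha hb
    · rw [P.card_centralizer_commutator, hx]
      have h1 := (P.card_le_two_mul (Subgroup.centralizer ({a} : Set G) ⊓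
        Subgroup.centralizer ({b} : Set G))).1
      rw [P.pair_card ha hb] at h1
      have h2 := Subgroup.card_le_of_le (H := (Subgroup.centralizer ({a} : Set G) ⊓
        Subgroup.centralizer ({b} : Set G)) ⊓ commutator G)
        (K := Subgroup.centralizer ({a * b} : Set G) ⊓ commutator G) fun g hg =>
          ⟨Subgroup.mem_centralizer_singleton_iff.2
            ((show Commute g a from Subgroup.mem_centralizer_singleton_iff.1 hg.1.1).mul_right
              (Subgroup.mem_centralizer_singleton_iff.1 hg.1.2)).eq, hg.2⟩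
      rw [bigCent]
      omega

/-- The factors of a product of two are unique. -/
theorem pair_eq {a b c e : G} (ha : a ∈ D) (hb : b ∈ link D a) (hc : c ∈ D) (he : e ∈ link D c)
    (h : a * b = c * e) : (a = c ∧ b = e) ∨ (a = e ∧ b = c) := by
  have hu := factors_unique P.data 2 (by norm_num)
    (fun k h1 h2 => P.indeps (2 * k) (by omega) (by omega)) [a, b] [c, e]
    ⟨by simp [hb.2.1.symm], by simp [ha, hb.1], by simp [hb.2.2, hb.2.2.symm]⟩
    ⟨by simp [he.2.1.symm], by simp [hc, he.1], by simp [he.2.2, he.2.2.symm]⟩ rfl rfl (by simpa using h)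
  have h1 := (hu a).1 (by simp)
  have h2 := (hu b).1 (by simp)
  simp only [List.mem_cons, List.not_mem_nil, or_false] at h1 h2
  rcases h1 with h1 | h1 <;> rcases h2 with h2 | h2
  · exact absurd (h2.trans h1.symm) hb.2.1
  · exact Or.inl ⟨h1, h2⟩
  · exact Or.inr ⟨h1, h2⟩
  · exact absurd (h2.trans h1.symm) hb.2.1

/-- An element of odd order centralising a product fixes both factors. -/
theorem odd_fix {a b g : G} (ha : a ∈ D) (hb : b ∈ link D a) (hg : g ^ 11 = 1)
    (hc : Commute g (a * b)) : Commute g a ∧ Commute g b := by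
  have hD := P.data
  have key : ∀ k : G, Commute k (a * b) → (cj k a = a ∧ cj k b = b) ∨ (cj k a = b ∧ cj k b = a) := by
    intro k hk
    have hb' : cj k b ∈ link D (cj k a) := by
      have := Set.mem_image_of_mem (cj k) hb
      rwa [link_image hD] at this
    refine (P.pair_eq (hD.inv' k a ha) hb' ha hb ?_).imp id fun h => ⟨h.1, h.2⟩
    rw [← cj_map_mul]
    exact (cj_eq_self_iff k _).2 hk
  have h2 : cj (g * g) a = a ∧ cj (g * g) b = b := by
    rw [cj_mul, cj_mul]
    rcases key g hc with ⟨e1, e2⟩ | ⟨e1, e2⟩ <;> simp [e1, e2]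
  have e : g = (g * g) ^ 6 := by
    rw [← pow_two, ← pow_mul, show 2 * 6 = 11 + 1 by rfl, pow_succ, hg, one_mul]
  rw [e]
  exact ⟨((cj_eq_self_iff _ _).1 h2.1).pow_left 6, ((cj_eq_self_iff _ _).1 h2.2).pow_left 6⟩

/-- Incident products. -/
theorem tri_of {a b c : G} (ha : a ∈ D) (hb : b ∈ link D a) (hc : c ∈ link D a ∩ link D b)
    (x y : ↥(commutator G)) (hx : (x : G) = a * b) (hy : (y : G) = a * c) :
    Tri x y ∧ ((x * y : ↥(commutator G)) : G) = b * c := by
  have hxy : ((x * y : ↥(commutator G)) : G) = b * c := by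
    rw [Subgroup.coe_mul, hx, hy, hb.2.2.eq, mul_assoc, ← mul_assoc a a c, P.data.mul_self ha, one_mul]
  refine ⟨⟨(P.isPair_iff x).2 ⟨a, ha, b, hb, hx⟩, (P.isPair_iff y).2 ⟨a, ha, c, hc.1, hy⟩,
    (P.isPair_iff _).2 ⟨b, hb.1, c, hc.2, hxy⟩, ?_, ?_⟩, hxy⟩
  · refine Subtype.ext ?_
    rw [hxy, Subgroup.coe_mul, hx, hy, hc.1.2.2.eq, mul_assoc, ← mul_assoc a a b, P.data.mul_self ha,
      one_mul]
    exact hc.2.2.2.eq
  · haveI : Fact (Nat.Prime 11) := ⟨by norm_num⟩
    obtain ⟨⟨g, hgK⟩, hg⟩ := exists_prime_orderOf_dvd_card' 11 (show 11 ∣ Nat.card ↥(Subgroup.centralizer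
      ({a} : Set G) ⊓ Subgroup.centralizer ({b} : Set G) ⊓ Subgroup.centralizer ({c} : Set G)) by
        rw [P.triple_card ha hb hc]; norm_num)
    rw [Subgroup.orderOf_mk] at hg
    have hga : Commute g a := Subgroup.mem_centralizer_singleton_iff.1 hgK.1.1
    refine ⟨⟨g, P.odd_mem_commutator (n := 11) (by decide) (hg ▸ pow_orderOf_eq_one g)⟩,
      by rw [Subgroup.orderOf_mk]; exact hg, Subtype.ext ?_, Subtype.ext ?_⟩
    · show g * (x : G) = x * g
      rw [hx]
      exact (hga.mul_right (Subgroup.mem_centralizer_singleton_iff.1 hgK.1.2)).eq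
    · show g * (y : G) = y * g
      rw [hy]
      exact (hga.mul_right (Subgroup.mem_centralizer_singleton_iff.1 hgK.2)).eq

/-- Incidence is recognised. -/
theorem tri_share {p q r s : G} (hp : p ∈ D) (hq : q ∈ link D p) (hr : r ∈ D) (hs : s ∈ link D r)
    (x y : ↥(commutator G)) (hx : (x : G) = p * q) (hy : (y : G) = r * s) (h : Tri x y) :
    r = p ∨ r = q ∨ s = p ∨ s = q := by
  by_contra hne
  push Not at hne
  obtain ⟨h1, h2, h3, h4⟩ := hne
  obtain ⟨-, -, h5, -, g, hg, hgx, hgy⟩ := h
  have hg11 : (g : G) ^ 11 = 1 := by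
    have := congrArg Subtype.val (pow_orderOf_eq_one g)
    rwa [hg] at this
  have fx : Commute (g : G) p ∧ Commute (g : G) q := P.odd_fix hp hq hg11
    (by rw [← hx]; exact hgx.map (commutator G).subtype)
  have fy : Commute (g : G) r ∧ Commute (g : G) s := P.odd_fix hr hs hg11
    (by rw [← hy]; exact hgy.map (commutator G).subtype)
  have far : ∀ u v, u ∈ D → v ∈ D → Commute (g : G) u → Commute (g : G) v → Commute u v := by
    intro u v hu hv gu gv
    by_contra hno
    have hmem : (g : G) ∈ Subgroup.centralizer ({u, v} : Set G) := mem_pair.2 ⟨gu, gv⟩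
    have hd := Subgroup.orderOf_dvd_natCard (Subgroup.centralizer ({u, v} : Set G)) hmem
    rw [Subgroup.orderOf_coe, hg, P.far_card hu hv hno] at hd
    omega
  have c1 := far p r hp hr fx.1 fy.1
  have c2 := far p s hp hs.1 fx.1 fy.2
  have c3 := far q r hq.1 hr fx.2 fy.1
  have c4 := far q s hq.1 hs.1 fx.2 fy.2
  obtain ⟨u, hu, v, hv, huv⟩ := (P.isPair_iff _).1 h5
  refine P.len_unique_four 2 [u, v] [p, q, r, s]
    ⟨by simp [hv.2.1.symm], by simp [hu, hv.1], by simp [hv.2.2, hv.2.2.symm]⟩
    ⟨by simp [hq.2.1.symm, hs.2.1.symm, Ne.symm h1, Ne.symm h2, Ne.symm h3, Ne.symm h4],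
      by simp [hp, hq.1, hr, hs.1],
      by simp [hq.2.2, hq.2.2.symm, hs.2.2, hs.2.2.symm, c1, c1.symm, c2, c2.symm, c3, c3.symm, c4,
        c4.symm]⟩ rfl (by simp) (by simp) ?_
  simp only [List.prod_cons, List.prod_nil, mul_one, ← huv, Subgroup.coe_mul, hx, hy, mul_assoc]

end M24Prim

end Cfsg.Agent.TTLink
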