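import Cfsg.Agent.TTLink.M22Core

/-!
A transvection far from `p` is determined, up to its reflection in `p`, by the points orthogonal to both.
-/

set_option autoImplicit false

namespace Cfsg.Agent.TTLink.UnitarySix

open Cfsg.Agent.TTClass.UnitF4

variable {F : Type} [Field F] [Fintype F] (hF : Fintype.card F = 4)
include hF

/-- An isotropic vector not orthogonal to a given one. -/
theorem exists_iso_far {p : Fin 6 → F} (hp : H p p = 0) (hp0 : p ≠ 0) :
    ∃ r : Fin 6 → F, H r r = 0 ∧ H p r ≠ 0 := by
  obtain ⟨y, hy, hy'⟩ := exists_h_one hF hp0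
  rcases h_self hF y with e | e
  · exact ⟨y, e, by rw [hy']; exact one_ne_zero⟩
  obtain ⟨w, hw⟩ := exists_omega hF
  refine ⟨y + w • p, ?_, ?_⟩
  · simp only [h_add_left, h_add_right hF, h_smul_left, h_smul_right, hp, e, hy, hy', mul_zero,
      add_zero, mul_one]
    linear_combination hw
  · rw [h_add_right hF, h_smul_right, hp, mul_zero, add_zero, hy']
    exact one_ne_zero

theorem far_span {p r s : Fin 6 → F} (hp : H p p = 0) (hr : H r r = 0) (hpr : H p r ≠ 0)
    (h : ∀ q : Fin 6 → F, H q q = 0 → q ≠ 0 → H q p = 0 → H q r = 0 → H q s = 0) :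
    ∃ a b : F, s = a • r + b • p := by
  have h2 := two_eq_zero hF
  have hrp : H r p ≠ 0 := by rw [h_symm hF p r]; exact pow_ne_zero 2 hpr
  let P : (Fin 6 → F) → (Fin 6 → F) := fun u => u + (H u r / H p r) • p + (H u p / H r p) • r
  have hPp : ∀ u, H (P u) p = 0 := fun u => by
    simp only [P, h_add_left, h_smul_left, hp, mul_zero, add_zero]
    rw [div_mul_cancel₀ _ hrp]; linear_combination H u p * h2
  have hPr : ∀ u, H (P u) r = 0 := fun u => by
    simp only [P, h_add_left, h_smul_left, hr, mul_zero, add_zero]
    rw [div_mul_cancel₀ _ hpr]; linear_combination H u r * h2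
  have hW : ∀ v, H v p = 0 → H v r = 0 → H v s = 0 := by
    have iso : ∀ v, H v v = 0 → H v p = 0 → H v r = 0 → H v s = 0 := fun v h0 h1 h2' => by
      rcases eq_or_ne v 0 with rfl | hv
      · exact h_zero_left s
      · exact h v h0 hv h1 h2'
    intro x hxp hxr
    rcases h_self hF x with hx | hx
    · exact iso x hx hxp hxr
    by_contra hm
    obtain ⟨w, hw⟩ := exists_omega hF
    -- the orthogonal part of `x`
    let T : (Fin 6 → F) → Prop := fun v => H v p = 0 ∧ H v r = 0 ∧ H v x = 0
    have tiso : ∀ v, T v → H v v = 0 := by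
      rintro v ⟨v1, v2, v3⟩
      rcases h_self hF v with e | e
      · exact e
      exfalso
      have hxv : H x v = 0 := by rw [h_symm hF v x, v3]; simp
      have key : ∀ c : F, c ^ 3 = 1 → H x s + c * H v s = 0 := fun c hc => by
        have := iso (x + c • v)
          (by simp only [h_add_left, h_add_right hF, h_smul_left, h_smul_right, hxv, v3, hx, e]
              linear_combination hc + h2)
          (by rw [h_add_left, h_smul_left, hxp, v1]; simp)
          (by rw [h_add_left, h_smul_left, hxr, v2]; simp)
        rwa [h_add_left, h_smul_left] at this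
      have k1 := key 1 (one_pow 3)
      have k2 := key w (by linear_combination (w - 1) * hw)
      apply hm
      have hw1 : w - 1 ≠ 0 := fun e1 => one_ne_zero (α := F) (by
        rw [sub_eq_zero.1 e1] at hw; linear_combination hw - h2)
      have : (w - 1) * H v s = 0 := by linear_combination k2 - k1
      have hv0 := (mul_eq_zero.1 this).resolve_left hw1
      rw [hv0, mul_zero, add_zero] at k1
      exact k1
    have tperp : ∀ v v', T v → T v' → H v v' = 0 := by
      intro v v' hv hv'
      have key : ∀ c : F, c ^ 2 * H v v' + c * H v v' ^ 2 = 0 := fun c => by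
        have := tiso (v + c • v') ⟨by rw [h_add_left, h_smul_left, hv.1, hv'.1]; simp,
          by rw [h_add_left, h_smul_left, hv.2.1, hv'.2.1]; simp,
          by rw [h_add_left, h_smul_left, hv.2.2, hv'.2.2]; simp⟩
        simp only [h_add_left, h_add_right hF, h_smul_left, h_smul_right, tiso v hv, tiso v' hv',
          h_symm hF v v'] at this
        linear_combination this
      have a1 := key 1
      have a2 := key w
      linear_combination w * a1 - a2 + H v v' * hw - w * H v v' * h2
    let P' : (Fin 6 → F) → (Fin 6 → F) := fun u => P u + H (P u) x • x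
    have hT : ∀ u, T (P' u) := fun u => by
      refine ⟨?_, ?_, ?_⟩ <;> simp only [P', h_add_left, h_smul_left, hPp, hPr, hxp, hxr, hx] <;>
        first | ring1 | linear_combination H (P u) x * h2
    have t0 : ∀ t, T t → t = 0 := by
      intro t ht
      by_contra hne
      obtain ⟨u, hu, -⟩ := exists_h_one hF hne
      have hpt : H p t = 0 := by rw [h_symm hF t p, ht.1]; simp
      have hrt : H r t = 0 := by rw [h_symm hF t r, ht.2.1]; simp
      have hxt : H x t = 0 := by rw [h_symm hF t x, ht.2.2]; simp
      have := tperp _ _ (hT u) ht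
      simp only [P', P, h_add_left, h_smul_left, hpt, hrt, hxt, mul_zero, add_zero, hu] at this
      exact one_ne_zero this
    have hspan : (⊤ : Submodule F (Fin 6 → F)) ≤ Submodule.span F (Set.range ![p, r, x]) := by
      intro u _
      have e : u = P' u - (H u r / H p r) • p - (H u p / H r p) • r - H (P u) x • x := by
        simp only [P', P]; abel
      rw [t0 _ (hT u)] at e
      rw [e]
      refine Submodule.sub_mem _ (Submodule.sub_mem _ (Submodule.sub_mem _ (Submodule.zero_mem _) ?_) ?_) ?_
      exacts [Submodule.smul_mem _ _ (Submodule.subset_span ⟨0, rfl⟩),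
        Submodule.smul_mem _ _ (Submodule.subset_span ⟨1, rfl⟩),
        Submodule.smul_mem _ _ (Submodule.subset_span ⟨2, rfl⟩)]
    have h6 := Submodule.finrank_mono hspan
    rw [finrank_top, Module.finrank_pi, Fintype.card_fin] at h6
    have h3 := finrank_range_le_card (R := F) ![p, r, x]
    rw [Set.finrank, Fintype.card_fin] at h3
    omega
  have hz : P s = 0 := by
    by_contra hne
    obtain ⟨u, hu, -⟩ := exists_h_one hF hne
    have hp' : H p (P s) = 0 := by rw [h_symm hF (P s) p, hPp]; simp
    have hr' : H r (P s) = 0 := by rw [h_symm hF (P s) r, hPr]; simp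
    have e1 : H (P u) (P s) = 1 := by
      rw [show P u = u + (H u r / H p r) • p + (H u p / H r p) • r from rfl]
      simp only [h_add_left, h_smul_left, hp', hr', mul_zero, add_zero, hu]
    have e2 : H (P u) (P s) = H (P u) s := by
      conv_lhs => rw [show P s = s + (H s r / H p r) • p + (H s p / H r p) • r from rfl]
      simp only [h_add_right hF, h_smul_right, hPp, hPr, mul_zero, add_zero]
    rw [e2, hW _ (hPp u) (hPr u)] at e1
    exact zero_ne_one e1
  refine ⟨H s p / H r p, H s r / H p r, ?_⟩
  have e : s = P s - (H s r / H p r) • p - (H s p / H r p) • r := by simp only [P]; abel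
  rw [hz] at e
  conv_lhs => rw [e]
  ext i
  simp only [Pi.sub_apply, Pi.add_apply, Pi.zero_apply, Pi.smul_apply, smul_eq_mul]
  linear_combination -(H s r / H p r * p i + H s p / H r p * r i) * h2

/-- The two transvections with the same orthogonal points. -/
theorem far_two {p r s : Fin 6 → F} (hp : H p p = 0) (hr : H r r = 0) (hs : H s s = 0) (hs0 : s ≠ 0)
    (hpr : H p r ≠ 0) (hps : H p s ≠ 0)
    (h : ∀ q : Fin 6 → F, H q q = 0 → q ≠ 0 → H q p = 0 → H q r = 0 → H q s = 0) :
    ∃ k : F, k ≠ 0 ∧ (s = k • r ∨ s = k • (r + H r p • p)) := by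
  obtain ⟨a, b, rfl⟩ := far_span hF hp hr hpr h
  have ha : a ≠ 0 := by
    rintro rfl
    exact hps (by simp only [zero_smul, zero_add, h_smul_right, hp, mul_zero])
  refine ⟨a, ha, ?_⟩
  set k := H p r with hk
  have hrp : H r p = k ^ 2 := h_symm hF p r
  have e : a * b ^ 2 * k ^ 2 + b * a ^ 2 * k = 0 := by
    simp only [h_add_left, h_add_right hF, h_smul_left, h_smul_right, hp, hr, mul_zero, zero_add,
      add_zero, ← hk, hrp] at hs
    linear_combination hs
  rcases eq_or_ne b 0 with rfl | hb
  · exact Or.inl (by simp)
  refine Or.inr ?_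
  have e' : b * k + a = 0 := by
    have : a * b * k * (b * k + a) = 0 := by linear_combination e
    exact (mul_eq_zero.1 this).resolve_left (mul_ne_zero (mul_ne_zero ha hb) hpr)
  have hb' : b = a * H r p := by
    rw [hrp]
    linear_combination -b * cube hF hpr + k ^ 2 * e' - a * k ^ 2 * two_eq_zero hF
  rw [smul_add, smul_smul, ← hb']

end Cfsg.Agent.TTLink.UnitarySix
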